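import Groth.Agent.EtDepthLib.Dict
import Groth.Agent.SuppCoh.Etale
import Groth.Agent.UAcycBCLib.StrictOpen

/-!
# Local cohomology sheaves and inverse image along locally acyclic morphisms
-/

set_option autoImplicit false
set_option linter.style.haveILetI false
set_option linter.unusedSectionVars false
set_option backward.isDefEq.respectTransparency false
set_option backward.isDefEq.respectTransparency.types false
set_option maxHeartbeats 1000000

universe u

open CategoryTheory CategoryTheory.Limits AlgebraicGeometry Opposite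

attribute [local instance] Groth.Agent.S0101.result

noncomputable section

namespace Groth.Agent.EtDepthLib

variable {L : Set ℕ} {m : ℕ} {S V X U : Scheme.{u}} (k : V ⟶ S) [IsOpenImmersion k] [QuasiCompact k]
  [EtCoh.BCCont k] (φ : X ⟶ S) (k' : U ⟶ X) [IsOpenImmersion k'] [EtCoh.BCCont k'] (φ' : U ⟶ V)
  (sq : IsPullback φ' k' k φ)

include sq in
/-- Local cohomology commutes with inverse image in degrees `≤ m + 1`. -/
theorem nonempty_locCoh_pull_of_strictFibres (hst : AcycCritLib.StrictFibres φ L m) (M : EtCoh.Ab S)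
    (hM : EtAcyc.IsLTorsion L M) (b : ℕ) (hb : b ≤ m + 1) :
    Nonempty ((EtCoh.pull φ).obj ((EtDual.locCoh k b).obj M) ≅
      (EtDual.locCoh k' b).obj ((EtCoh.pull φ).obj M)) := by
  let G := (EtCoh.pull k).obj M
  have hG : EtAcyc.IsLTorsion L G := AcycCompLib.isLTorsion_pull k hM
  haveI : (EtCoh.pull φ).Additive := (EtCoh.pullPushAdj φ).left_adjoint_additive
  haveI : PreservesFiniteColimits (EtCoh.pull φ) := EtCore.pull_preservesFiniteColimits φ
  haveI := UAcycBCLib.isIso_bcQ_open hst k k' φ' sq 0 m.zero_le G hG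
  haveI := UAcycBCLib.isIso_baseChange0_of k k' φ' sq.w G this
  let e : (EtCoh.pull φ).obj ((EtCoh.push k).obj G) ≅
      (EtCoh.push k').obj ((EtCoh.pull k').obj ((EtCoh.pull φ).obj M)) :=
    asIso (EtCoh.baseChange0 k φ k' φ' sq.w G) ≪≫
      (EtCoh.push k').mapIso ((SuppCoh.pullSq k φ k' φ' sq.w).app M).symm
  have he : (EtCoh.pull φ).map (EtDual.unitApp k M) ≫ e.hom =
      (Iso.refl ((EtCoh.pull φ).obj M)).hom ≫ EtDual.unitApp k' ((EtCoh.pull φ).obj M) := by
    simp only [e, Iso.trans_hom, asIso_hom, Functor.mapIso_hom, Iso.symm_hom, Iso.app_inv, Iso.refl_hom,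
      Category.id_comp]
    rw [← Category.assoc, SuppCoh.map_unit_baseChange0, Category.assoc, ← Functor.map_comp, Iso.hom_inv_id_app]
    erw [CategoryTheory.Functor.map_id]
    exact Category.comp_id _
  let R := InjectiveResolution.of M
  let R' := InjectiveResolution.of ((EtCoh.pull φ).obj M)
  rcases b with _ | _ | b
  · obtain ⟨a⟩ := nonempty_locCoh_zero_iso k M
    obtain ⟨a'⟩ := nonempty_locCoh_zero_iso k' ((EtCoh.pull φ).obj M)
    exact ⟨(EtCoh.pull φ).mapIso a ≪≫ PreservesKernel.iso (EtCoh.pull φ) (EtDual.unitApp k M) ≪≫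
      kernel.mapIso _ _ (Iso.refl _) e he ≪≫ a'.symm⟩
  · obtain ⟨a⟩ := LocCohLib.nonempty_cokernel_iso k M R
    obtain ⟨a'⟩ := LocCohLib.nonempty_cokernel_iso k' ((EtCoh.pull φ).obj M) R'
    exact ⟨(EtCoh.pull φ).mapIso (R.isoRightDerivedObj (EtDual.secSupp k) 1 ≪≫ a.symm) ≪≫
      PreservesCokernel.iso (EtCoh.pull φ) (EtDual.unitApp k M) ≪≫
      cokernel.mapIso _ _ (Iso.refl _) e he ≪≫ a' ≪≫ (R'.isoRightDerivedObj (EtDual.secSupp k') 1).symm⟩
  · haveI := UAcycBCLib.isIso_bcQ_open hst k k' φ' sq (b + 1) (by omega) G hG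
    obtain ⟨a⟩ := LocCohLib.nonempty_iso_succ k M R b
    obtain ⟨a'⟩ := LocCohLib.nonempty_iso_succ k' ((EtCoh.pull φ).obj M) R' b
    exact ⟨(EtCoh.pull φ).mapIso (R.isoRightDerivedObj (EtDual.secSupp k) (b + 2) ≪≫ a.symm) ≪≫
      asIso (EtBC.bcQ k φ k' φ' sq.w (b + 1) G) ≪≫
      (EtCoh.Rpush k' (b + 1)).mapIso ((SuppCoh.pullSq k φ k' φ' sq.w).app M).symm ≪≫
      a' ≪≫ (R'.isoRightDerivedObj (EtDual.secSupp k') (b + 2)).symm⟩

end Groth.Agent.EtDepthLib
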