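import Groth.Agent.EtDepthLib.Main

/-!
# Depth of inverse images along closed subsets
-/

set_option autoImplicit false
set_option linter.style.haveILetI false
set_option linter.unusedSectionVars false
set_option backward.isDefEq.respectTransparency false
set_option backward.isDefEq.respectTransparency.types false
set_option maxHeartbeats 1000000

universe u

open CategoryTheory CategoryTheory.Limits AlgebraicGeometry Opposite IsLocalRing

noncomputable section

namespace Groth.Agent.EtDepthLib

theorem depthGE_pull_along {X U S : Scheme.{u}} (f : X ⟶ S) (j : U ⟶ X) [IsOpenImmersion j] [QuasiCompact j]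
    [EtCoh.BCCont j] (hnoeth : ∀ y : X, y ∉ Set.range j.base → IsNoetherianRing (X.presheaf.stalk y)) (p q : ℕ)
    (ℓ : ℕ) (hℓ : ℓ.Prime) (F : EtCoh.Ab S) (hF : EtDepth.IsLTorsion ℓ F)
    (ha : EtDepth.IsLocAcyclicLE f ℓ (p + q - 2))
    (hb : ∀ y : X, y ∉ Set.range j.base → EtDepth.DepthAtGE S F (f.base y) p)
    (hc : ∀ y : X, y ∉ Set.range j.base →
      EtDepth.DepthGE (pullback.snd j (f.fiberι (f.base y))) (EtCoh.const (f.fiber (f.base y)) (ZMod ℓ)) q) :
    EtDepth.DepthGE j ((EtCoh.pull f).obj F) (p + q) := by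
  refine (depthGE_iff_depthAtGE j _ _).2 fun y hy => ?_
  haveI : IsOpenImmersion (pullback.snd j (f.fiberι (f.base y))) := MorphismProperty.pullback_snd _ _ ‹_›
  haveI : QuasiCompact (pullback.snd j (f.fiberι (f.base y))) := MorphismProperty.pullback_snd _ _ ‹_›
  have h := depthAtGE_pull_ge_min f y (hnoeth y hy) ℓ hℓ (p + q - 2) p q F hF ha (hb y hy) fun x' hx' =>
    (depthGE_iff_depthAtGE (pullback.snd j (f.fiberι (f.base y))) _ q).1 (hc y hy) x' (by
      rintro ⟨z, hz⟩
      refine hy ⟨pullback.fst j (f.fiberι (f.base y)) z, ?_⟩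
      refine ((Scheme.Hom.comp_apply _ _ _).symm.trans
        (congrArg (fun g => g z) (pullback.condition (f := j) (g := f.fiberι (f.base y))))).trans ?_
      exact (Scheme.Hom.comp_apply _ _ _).trans ((congrArg _ hz).trans hx'))
  rwa [Nat.min_eq_left (by omega)] at h

end Groth.Agent.EtDepthLib
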