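import Groth.Agent.EtDepthLib.Points

/-!
# Depth along a closed subset and depth at its points
-/

set_option autoImplicit false
set_option linter.style.haveILetI false
set_option linter.unusedSectionVars false
set_option backward.isDefEq.respectTransparency false
set_option backward.isDefEq.respectTransparency.types false
set_option maxHeartbeats 1000000

universe u

open CategoryTheory CategoryTheory.Limits AlgebraicGeometry Opposite IsLocalRing

noncomputable section

namespace Groth.Agent.EtDepthLib

variable {X U : Scheme.{u}} (j : U ⟶ X) [IsOpenImmersion j] [QuasiCompact j] [EtCoh.BCCont j]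

theorem range_snd_subset_punctured (y : X) (hy : y ∉ Set.range j.base) (R : Type u) [CommRing R] [IsLocalRing R]
    [Algebra (X.presheaf.stalk y) R] [IsLocalHom (algebraMap (X.presheaf.stalk y) R)]
    [Hensel.IsStrictHenselization (X.presheaf.stalk y) R] :
    Set.range (pullback.snd j (Hens2.specOf X y R)).base ⊆ Set.range (FEt.puncturedSpec R).ι.base := by
  haveI := Hensel.IsStrictHenselization.henselian (R := X.presheaf.stalk y) (S := R)
  haveI : IsSepClosed (ResidueField R) :=
    (Hensel.IsStrictHenselization.isSepClosure (R := X.presheaf.stalk y) (S := R)).sep_closed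
  rintro _ ⟨z, rfl⟩
  rw [Scheme.Opens.range_ι]
  intro hz
  refine hy ⟨pullback.fst j (Hens2.specOf X y R) z, ?_⟩
  refine ((Scheme.Hom.comp_apply _ _ _).symm.trans
    (congrArg (fun k => k z) (pullback.condition (f := j) (g := Hens2.specOf X y R)))).trans ?_
  refine (Scheme.Hom.comp_apply _ _ _).trans ?_
  exact (congrArg (Hens2.specOf X y R) (Set.mem_singleton_iff.1 hz)).trans (SmoothPushLib.specOf_closedPoint y R)

/-- Depth along a closed subset is depth at all of its points. -/
theorem depthGE_iff_depthAtGE (F : EtCoh.Ab X) (n : ℕ) :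
    EtDepth.DepthGE j F n ↔ ∀ y : X, y ∉ Set.range j.base → EtDepth.DepthAtGE X F y n := by
  refine ⟨fun h y hy R _ _ _ _ _ p hp => ?_, fun h p => ?_⟩
  · refine SuppCoh.isZero_locCoh_of_range_subset (pullback.snd j (Hens2.specOf X y R)) _
      (range_snd_subset_punctured j y hy R) _ n (fun q hq => ?_) p hp
    obtain ⟨e⟩ := nonempty_locCoh_specOf j y R q F
    haveI : (EtCoh.pull (Hens2.specOf X y R)).Additive := (EtCoh.pullPushAdj _).left_adjoint_additive
    exact ((EtCoh.pull (Hens2.specOf X y R)).map_isZero (h q hq)).of_iso e.symm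
  · induction p using Nat.strong_induction_on with
    | _ p ih =>
      intro hp
      refine isZero_of_secSupp_punctured j _ (isZero_pull_locCoh j p F) fun y hy R _ _ _ _ _ => ?_
      haveI : (EtCoh.pull (Hens2.specOf X y R)).Additive := (EtCoh.pullPushAdj _).left_adjoint_additive
      obtain ⟨e⟩ := nonempty_locCoh_specOf j y R p F
      obtain ⟨e'⟩ := nonempty_locCoh_iso_secSupp (pullback.snd j (Hens2.specOf X y R)) (FEt.puncturedSpec R).ι
        (range_snd_subset_punctured j y hy R) ((EtCoh.pull (Hens2.specOf X y R)).obj F) p fun q hq => by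
          obtain ⟨eq⟩ := nonempty_locCoh_specOf j y R q F
          exact ((EtCoh.pull (Hens2.specOf X y R)).map_isZero (ih q hq (hq.trans hp))).of_iso eq.symm
      exact (h y hy R p hp).of_iso ((EtDual.secSupp _).mapIso e ≪≫ e'.symm)

end Groth.Agent.EtDepthLib
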