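import Groth.Agent.EtDepthLib.StrictHens
import Groth.Agent.HyperAlg.Cart
import Groth.Agent.Henselization.Fibre
import Groth.Agent.S19343
import Groth.Agent.S0538
import Groth.Agent.ProEtSLib.GeomLift

/-!
# The closed fibre of a morphism of strict localizations
-/

set_option autoImplicit false
set_option linter.style.haveILetI false
set_option linter.unusedSectionVars false
set_option backward.isDefEq.respectTransparency false
set_option backward.isDefEq.respectTransparency.types false
set_option maxHeartbeats 1000000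

universe u

open CategoryTheory CategoryTheory.Limits AlgebraicGeometry Opposite IsLocalRing

attribute [local instance] Groth.Agent.S0101.result

noncomputable section

namespace Groth.Agent.EtDepthLib

theorem isPullback_comp_mono {C : Type*} [Category C] {P A B T S : C} {a : P ⟶ A} {b : P ⟶ B} {f : A ⟶ T}
    {g : B ⟶ T} (h : IsPullback a b f g) (m : T ⟶ S) [Mono m] : IsPullback a b (f ≫ m) (g ≫ m) :=
  IsPullback.of_isLimit' ⟨by rw [← Category.assoc, h.w, Category.assoc]⟩
    (PullbackCone.IsLimit.mk _
      (fun s => h.lift s.fst s.snd ((cancel_mono m).1 (by simpa only [Category.assoc] using s.condition)))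
      (fun s => h.lift_fst _ _ _) (fun s => h.lift_snd _ _ _)
      (fun s l h₁ h₂ => h.hom_ext (by rw [h₁, h.lift_fst]) (by rw [h₂, h.lift_snd])))

/-- Quotients of strictly henselian local rings. -/
theorem strictlyHenselian_quotient (A : Type u) [CommRing A] [HenselianLocalRing A] [IsSepClosed (ResidueField A)]
    (I : Ideal A) (hI : I ≠ ⊤) :
    ∃ _ : HenselianLocalRing (A ⧸ I), IsSepClosed (ResidueField (A ⧸ I)) := by
  haveI : Nontrivial (A ⧸ I) := Ideal.Quotient.nontrivial_iff.2 hI
  haveI : IsLocalRing (A ⧸ I) := IsLocalRing.of_surjective' _ Ideal.Quotient.mk_surjective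
  haveI : IsLocalHom (Ideal.Quotient.mk I) := IsLocalHom.of_surjective _ Ideal.Quotient.mk_surjective
  haveI : HenselianRing A (maximalIdeal A) := Hensel.henselianRing_maximalIdeal_iff.2 inferInstance
  have h1 := Hensel.quotient (J := maximalIdeal A) I
  rw [IsLocalRing.map_maximalIdeal_of_surjective _ Ideal.Quotient.mk_surjective] at h1
  haveI := Hensel.henselianRing_maximalIdeal_iff.1 h1
  refine ⟨inferInstance, WLocalLib.isSepClosed_of_ringEquiv (RingEquiv.ofBijective
    (ResidueField.map (Ideal.Quotient.mk I)) ⟨RingHom.injective _, fun z => ?_⟩)⟩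
  obtain ⟨z, rfl⟩ := residue_surjective z
  obtain ⟨a, rfl⟩ := Ideal.Quotient.mk_surjective z
  exact ⟨residue A a, rfl⟩

section

variable {X S : Scheme.{u}} (f : X ⟶ S) (x : X) (RS RX : Type u) [CommRing RS] [CommRing RX] [IsLocalRing RS]
  [IsLocalRing RX]
  [Algebra (S.presheaf.stalk (f x)) RS] [IsLocalHom (algebraMap (S.presheaf.stalk (f x)) RS)]
  [Hensel.IsStrictHenselization (S.presheaf.stalk (f x)) RS]
  [Algebra (X.presheaf.stalk x) RX] [IsLocalHom (algebraMap (X.presheaf.stalk x) RX)]
  [Hensel.IsStrictHenselization (X.presheaf.stalk x) RX]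
  [Algebra RS RX] [IsLocalHom (algebraMap RS RX)]
  (hsq : Hens2.specOf X x RX ≫ f = Spec.map (CommRingCat.ofHom (algebraMap RS RX)) ≫ Hens2.specOf S (f x) RS)

/-- The closed point of a strict localization is the fibre over the point. -/
theorem isPullback_closedPoint :
    IsPullback (Spec.map (CommRingCat.ofHom (residue RS)))
      (Spec.map (CommRingCat.ofHom (ResidueField.map (algebraMap (S.presheaf.stalk (f x)) RS))))
      (Hens2.specOf S (f x) RS) (S.fromSpecResidueField (f x)) := by
  let O := S.presheaf.stalk (f x)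
  let J : Ideal RS := (maximalIdeal O).map (algebraMap O RS)
  have hJ : J = maximalIdeal RS := S0538.result O RS
  have h0 := HyperAlg.isPushout_quotient (A := O) (B := RS) (maximalIdeal O)
  let e : CommRingCat.of (RS ⧸ J) ≅ CommRingCat.of (ResidueField RS) :=
    (Ideal.quotEquivOfEq hJ).toCommRingCatIso
  have h1 : IsPushout (CommRingCat.ofHom (algebraMap O RS)) (CommRingCat.ofHom (residue O))
      (CommRingCat.ofHom (residue RS)) (CommRingCat.ofHom (ResidueField.map (algebraMap O RS))) := by
    refine IsPushout.of_iso h0 (Iso.refl _) (Iso.refl _) (Iso.refl _) e (by simp) rfl ?_ ?_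
    · exact CommRingCat.hom_ext (RingHom.ext fun a => rfl)
    · refine CommRingCat.hom_ext (RingHom.ext fun a => ?_)
      obtain ⟨a, rfl⟩ := Ideal.Quotient.mk_surjective a
      rfl
  exact isPullback_comp_mono (isPullback_SpecMap_of_isPushout _ _ _ _ h1) (S.fromSpecStalk (f x))

include hsq in
/-- Depth of a constant sheaf at a point of the fibre gives depth on the closed fibre of the strict localizations. -/
theorem depthGE_closedFibre (M : Type) [AddCommGroup M] (q : ℕ)
    (hq : ∀ x' : ↥(f.fiber (f x)), (f.fiberι (f x)) x' = x →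
      EtDepth.DepthAtGE (f.fiber (f x)) (EtCoh.const (f.fiber (f x)) M) x' q) :
    ∃ (A : Type u) (_ : CommRing A) (_ : IsLocalRing A) (iA : Spec (CommRingCat.of A) ⟶ Spec (CommRingCat.of RX))
      (pA : Spec (CommRingCat.of A) ⟶ Spec (CommRingCat.of (ResidueField RS))),
      IsClosedImmersion iA ∧ iA (closedPoint A) = closedPoint RX ∧
      IsPullback iA pA (Spec.map (CommRingCat.ofHom (algebraMap RS RX))) (Spec.map (CommRingCat.ofHom (residue RS))) ∧
      EtDepth.DepthGE (FEt.puncturedSpec A).ι (EtCoh.const (Spec (CommRingCat.of A)) M) q := by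
  haveI := Hensel.IsStrictHenselization.henselian (R := X.presheaf.stalk x) (S := RX)
  haveI : IsSepClosed (ResidueField RX) :=
    (Hensel.IsStrictHenselization.isSepClosure (R := X.presheaf.stalk x) (S := RX)).sep_closed
  let I : Ideal RX := (maximalIdeal RS).map (algebraMap RS RX)
  have hIm : I ≤ maximalIdeal RX := Ideal.map_le_iff_le_comap.2 fun a ha => by
    show algebraMap RS RX a ∈ maximalIdeal RX
    rwa [IsLocalRing.mem_maximalIdeal, mem_nonunits_iff, isUnit_map_iff (algebraMap RS RX)]
  obtain ⟨_, _⟩ := strictlyHenselian_quotient RX I fun h => (maximalIdeal.isMaximal RX).ne_top (top_le_iff.1 (h ▸ hIm))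
  let iA := Spec.map (CommRingCat.ofHom (Ideal.Quotient.mk I))
  haveI : IsClosedImmersion iA := IsClosedImmersion.spec_of_surjective _ Ideal.Quotient.mk_surjective
  let pA : Spec (CommRingCat.of (RX ⧸ I)) ⟶ Spec (CommRingCat.of (ResidueField RS)) :=
    Spec.map (CommRingCat.ofHom (Ideal.quotientMap I (algebraMap RS RX) Ideal.le_comap_map))
  have sqA : IsPullback iA pA (Spec.map (CommRingCat.ofHom (algebraMap RS RX)))
      (Spec.map (CommRingCat.ofHom (residue RS))) :=
    isPullback_SpecMap_of_isPushout _ _ _ _ (HyperAlg.isPushout_quotient (A := RS) (B := RX) (maximalIdeal RS))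
  have sq2 := sqA.paste_vert (isPullback_closedPoint f x RS)
  rw [← hsq] at sq2
  let g : Spec (CommRingCat.of (RX ⧸ I)) ⟶ f.fiber (f x) :=
    pullback.lift (iA ≫ Hens2.specOf X x RX)
      (pA ≫ Spec.map (CommRingCat.ofHom (ResidueField.map (algebraMap (S.presheaf.stalk (f x)) RS))))
      (by rw [Category.assoc]; exact sq2.w)
  have sq3 : IsPullback iA g (Hens2.specOf X x RX) (f.fiberι (f x)) :=
    IsPullback.of_bot (h₁₁ := iA) (v₁₁ := g) (h₂₁ := f.fiberι (f x)) (v₂₁ := f.fiberToSpecResidueField (f x))
      (v₂₂ := f) (h₃₁ := S.fromSpecResidueField (f x))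
      (by rw [show g ≫ f.fiberToSpecResidueField (f x) = _ from pullback.lift_snd _ _ _]; exact sq2)
      (pullback.lift_fst _ _ _).symm (IsPullback.of_hasPullback f (S.fromSpecResidueField (f x)))
  haveI := ProEtSLib.weaklyEtale_specOf X x RX
  haveI : WeaklyEtale g := MorphismProperty.of_isPullback (P := @WeaklyEtale) sq3 inferInstance
  have hc : iA (closedPoint (RX ⧸ I)) = closedPoint RX := by
    haveI : IsLocalHom (Ideal.Quotient.mk I) := IsLocalHom.of_surjective _ Ideal.Quotient.mk_surjective
    exact IsLocalRing.comap_closedPoint (Ideal.Quotient.mk I)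
  have hgx : (f.fiberι (f x)) (g (closedPoint (RX ⧸ I))) = x := by
    refine ((Scheme.Hom.comp_apply _ _ _).symm.trans
      (congrArg (fun k : Spec (CommRingCat.of (RX ⧸ I)) ⟶ X => k (closedPoint (RX ⧸ I))) (pullback.lift_fst _ _ _))).trans ?_
    refine (Scheme.Hom.comp_apply _ _ _).trans ?_
    rw [hc]
    exact SmoothPushLib.specOf_closedPoint (Y := X) x RX
  refine ⟨RX ⧸ I, inferInstance, inferInstance, iA, pA, inferInstance, hc, sqA, fun p hp => ?_⟩
  exact (depthGE_punctured_of_weaklyEtale (RX ⧸ I) g _ q (hq _ hgx) p hp).of_iso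
    ((EtDual.locCoh _ p).mapIso (EtCore.pullConst g M).symm)

end

end Groth.Agent.EtDepthLib
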