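import Groth.Agent.EtDepthLib.Dict
import Groth.Agent.BCVertLib.EtaleBC
import Groth.Agent.HensH0.HenLocal
import Groth.Agent.SpSeqLib.DerivedComp
import Groth.Agent.SpSeqLib.AcyclicResolution

/-!
# Local cohomology of sheaves pushed forward from a closed subscheme
-/

set_option autoImplicit false
set_option linter.style.haveILetI false
set_option linter.unusedSectionVars false
set_option backward.isDefEq.respectTransparency false
set_option backward.isDefEq.respectTransparency.types false
set_option maxHeartbeats 1000000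

universe u

open CategoryTheory CategoryTheory.Limits AlgebraicGeometry Opposite

attribute [local instance] Groth.Agent.S0101.result

noncomputable section

namespace Groth.Agent.EtDepthLib

variable {Z X U UZ : Scheme.{u}} (i : Z ⟶ X) (k : U ⟶ X) [IsOpenImmersion k] (kZ : UZ ⟶ Z) (gU : UZ ⟶ U)
  (sq : IsPullback kZ gU i k)

/-- The composite `k_* k^* i_*` is `i_* kZ_* kZ^*`. -/
def ppPushIso (N : EtCoh.Ab Z) : (EtCoh.push k).obj ((EtCoh.pull k).obj ((EtCoh.push i).obj N)) ≅
    (EtCoh.push i).obj ((EtCoh.push kZ).obj ((EtCoh.pull kZ).obj N)) :=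
  haveI := BCVertLib.isIso_baseChange0_etale i k gU kZ sq N
  (EtCoh.push k).mapIso (asIso (EtCoh.baseChange0 i k gU kZ sq.w N)) ≪≫
    (EtCoh.pushComp k gU).app _ ≪≫ (EtCoh.pushCongr sq.w).symm.app _ ≪≫ (EtCoh.pushComp i kZ).symm.app _

theorem unit_ppPushIso (N : EtCoh.Ab Z) : EtDual.unitApp k ((EtCoh.push i).obj N) ≫ (ppPushIso i k kZ gU sq N).hom =
    (EtCoh.push i).map (EtDual.unitApp kZ N) := by
  have h : EtDual.unitApp k ((EtCoh.push i).obj N) ≫ (EtCoh.push k).map (EtCoh.baseChange0 i k gU kZ sq.w N) =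
      (EtCoh.push i).map (EtDual.unitApp kZ N) ≫ (EtCoh.pushComp i kZ).hom.app _ ≫
        (EtCoh.pushCongr sq.w).hom.app _ ≫ (EtCoh.pushComp k gU).inv.app _ :=
    ((EtCoh.pullPushAdj k).homEquiv_unit (X := (EtCoh.push i).obj N)
      (f := EtCoh.baseChange0 i k gU kZ sq.w N)).symm.trans (Equiv.apply_symm_apply _ _)
  simp only [ppPushIso, Iso.trans_hom, Functor.mapIso_hom, asIso_hom, Iso.app_hom, Iso.symm_hom,
    ← Category.assoc]
  rw [h]
  simp [Category.assoc]

/-- Sections with support of a direct image. -/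
def secSuppPushIso (N : EtCoh.Ab Z) :
    (EtDual.secSupp k).obj ((EtCoh.push i).obj N) ≅ (EtCoh.push i).obj ((EtDual.secSupp kZ).obj N) :=
  haveI : PreservesFiniteLimits (EtCoh.push i) := HensH0.preservesFiniteLimits_push i
  haveI : (EtCoh.push i).Additive := (EtCoh.pullPushAdj i).right_adjoint_additive
  kernel.mapIso _ _ (Iso.refl _) (ppPushIso i k kZ gU sq N) (by
    rw [Iso.refl_hom, Category.id_comp]; exact unit_ppPushIso i k kZ gU sq N) ≪≫
    (PreservesKernel.iso (EtCoh.push i) (EtDual.unitApp kZ N)).symm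

theorem secSuppPushIso_hom_ι (N : EtCoh.Ab Z) :
    (secSuppPushIso i k kZ gU sq N).hom ≫ (EtCoh.push i).map (kernel.ι (EtDual.unitApp kZ N)) =
      kernel.ι (EtDual.unitApp k ((EtCoh.push i).obj N)) := by
  haveI : PreservesFiniteLimits (EtCoh.push i) := HensH0.preservesFiniteLimits_push i
  haveI : (EtCoh.push i).Additive := (EtCoh.pullPushAdj i).right_adjoint_additive
  have h : (PreservesKernel.iso (EtCoh.push i) (EtDual.unitApp kZ N)).inv ≫
      (EtCoh.push i).map (kernel.ι (EtDual.unitApp kZ N)) = kernel.ι _ := by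
    rw [Iso.inv_comp_eq, PreservesKernel.iso_hom, kernelComparison_comp_ι]
  rw [secSuppPushIso, Iso.trans_hom, Category.assoc, Iso.symm_hom, h]
  exact (kernel.lift_ι _ _ _).trans (Category.comp_id _)

theorem secSuppPush_natural {F G : EtCoh.Ab Z} (a : F ⟶ G) :
    (EtDual.secSupp k).map ((EtCoh.push i).map a) ≫ (secSuppPushIso i k kZ gU sq G).hom =
      (secSuppPushIso i k kZ gU sq F).hom ≫ (EtCoh.push i).map ((EtDual.secSupp kZ).map a) := by
  haveI : PreservesFiniteLimits (EtCoh.push i) := HensH0.preservesFiniteLimits_push i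
  haveI : Mono ((EtCoh.push i).map (kernel.ι (EtDual.unitApp kZ G))) := inferInstance
  apply (cancel_mono ((EtCoh.push i).map (kernel.ι (EtDual.unitApp kZ G)))).1
  have h1 : (EtDual.secSupp kZ).map a ≫ kernel.ι (EtDual.unitApp kZ G) = kernel.ι (EtDual.unitApp kZ F) ≫ a :=
    kernel.lift_ι _ _ _
  have h2 : (EtDual.secSupp k).map ((EtCoh.push i).map a) ≫ kernel.ι (EtDual.unitApp k ((EtCoh.push i).obj G)) =
      kernel.ι (EtDual.unitApp k ((EtCoh.push i).obj F)) ≫ (EtCoh.push i).map a :=
    kernel.lift_ι _ _ _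
  rw [Category.assoc, Category.assoc, secSuppPushIso_hom_ι, h2, ← (EtCoh.push i).map_comp, h1,
    (EtCoh.push i).map_comp, ← Category.assoc, secSuppPushIso_hom_ι]

/-- Sections with support commute with direct images. -/
def secSuppPushNatIso : EtCoh.push i ⋙ EtDual.secSupp k ≅ EtDual.secSupp kZ ⋙ EtCoh.push i :=
  haveI : PreservesFiniteLimits (EtCoh.push i) := HensH0.preservesFiniteLimits_push i
  NatIso.ofComponents (secSuppPushIso i k kZ gU sq) (fun {F G} a => secSuppPush_natural i k kZ gU sq a)

include sq in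
/-- Vanishing of local cohomology passes to direct images along closed immersions. -/
theorem isZero_locCoh_push [IsClosedImmersion i] [IsOpenImmersion kZ] (N : EtCoh.Ab Z) (a : ℕ)
    (h : IsZero ((EtDual.locCoh kZ a).obj N)) : IsZero ((EtDual.locCoh k a).obj ((EtCoh.push i).obj N)) := by
  haveI : PreservesFiniteLimits (EtCoh.push i) := HensH0.preservesFiniteLimits_push i
  haveI : PreservesFiniteColimits (EtCoh.push i) := HensH0.preservesFiniteColimits_push i
  haveI : (EtCoh.push i).Additive := (EtCoh.pullPushAdj i).right_adjoint_additive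
  haveI : PreservesFiniteLimits (EtDual.secSupp k) :=
    ((Functor.preservesFiniteLimits_tfae (EtDual.secSupp k)).out 2 3).1
      fun _ _ f => SuppCoh.preservesKernel_secSupp k f
  haveI : (EtCoh.push i).PreservesInjectiveObjects :=
    Functor.preservesInjectiveObjects_of_adjunction_of_preservesMonomorphisms (EtCoh.pullPushAdj i)
  have hac : ∀ I : EtCoh.Ab Z, Injective I →
      SpSeqLib.IsAcyclicFor (EtDual.secSupp k) ((EtCoh.push i).obj I) := fun I _ p => by
    haveI : Injective ((EtCoh.push i).obj I) := Functor.PreservesInjectiveObjects.injective_obj inferInstance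
    exact (EtDual.secSupp k).isZero_rightDerived_obj_injective_succ p _
  exact ((EtCoh.push i).map_isZero h).of_iso
    (((SpSeqLib.rightDerivedPrecompAcyclicIso (EtCoh.push i) (EtDual.secSupp k) hac a).symm ≪≫
      SpSeqLib.rightDerivedCongr (secSuppPushNatIso i k kZ gU sq) a ≪≫
      SpSeqLib.rightDerivedPostcompIso (EtDual.secSupp kZ) (EtCoh.push i) a).app N)

end Groth.Agent.EtDepthLib
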