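import Groth.Agent.UAcycBCLib.Trunc
import Groth.Agent.AffCritLib.Acyclic
import Mathlib.Algebra.Homology.ShortComplex.Abelian

/-!
# Vanishing of the cohomology of the image of a complex of injectives
-/

set_option autoImplicit false
set_option backward.isDefEq.respectTransparency false
set_option backward.isDefEq.respectTransparency.types false
set_option linter.style.haveILetI false
set_option linter.unusedSectionVars false

universe v v' w w'

open CategoryTheory CategoryTheory.Limits

noncomputable section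

namespace Groth.Agent.EtDepthLib

variable {A : Type w} [Category.{v} A] [Abelian A] [EnoughInjectives A]
  {B : Type w'} [Category.{v'} B] [Abelian B] (Γ : A ⥤ B) [Γ.Additive] [PreservesFiniteLimits Γ]
  (K : CochainComplex A ℕ)

/-- The coboundaries as the quotient by the cocycles. -/
abbrev bdry (b : ℕ) : A := cokernel (kernel.ι (K.d b (b + 1)))

/-- The inclusion of coboundaries into cocycles. -/
abbrev bdryIncl (b : ℕ) : bdry K b ⟶ kernel (K.d (b + 1) (b + 2)) :=
  cokernel.desc _ (kernel.lift _ (K.d b (b + 1)) (K.d_comp_d _ _ _)) (by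
    apply (cancel_mono (kernel.ι (K.d (b + 1) (b + 2)))).1
    rw [Category.assoc, kernel.lift_ι, kernel.condition, zero_comp])

/-- The cokernel of the inclusion is the cohomology. -/
theorem nonempty_cokernel_bdryIncl (b : ℕ) : Nonempty (cokernel (bdryIncl K b) ≅ K.homology (b + 1)) := by
  let S := K.sc' b (b + 1) (b + 2)
  let hl := ShortComplex.LeftHomologyData.ofHasKernelOfHasCokernel S
  let e₁ : cokernel (kernel.lift S.g S.f S.zero) ≅ S.homology := hl.homologyIso.symm
  let e₂ : cokernel (cokernel.π (kernel.ι (K.d b (b + 1))) ≫ bdryIncl K b) ≅ cokernel (bdryIncl K b) :=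
    cokernelEpiComp _ _
  let e₃ : cokernel (cokernel.π (kernel.ι (K.d b (b + 1))) ≫ bdryIncl K b) ≅ cokernel (kernel.lift S.g S.f S.zero) :=
    cokernelIsoOfEq (cokernel.π_desc _ _ _)
  exact ⟨e₂.symm ≪≫ e₃ ≪≫ e₁ ≪≫
    (ShortComplex.homologyMapIso (K.isoSc' b (b + 1) (b + 2) (by simp) (by simp))).symm⟩

instance mono_bdryIncl (b : ℕ) : Mono (bdryIncl K b) := by
  haveI : Mono (bdryIncl K b ≫ kernel.ι (K.d (b + 1) (b + 2))) := by
    have e : bdryIncl K b ≫ kernel.ι (K.d (b + 1) (b + 2)) = Abelian.factorThruCoimage (K.d b (b + 1)) := by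
      apply (cancel_epi (cokernel.π (kernel.ι (K.d b (b + 1))))).1
      simp only [bdryIncl, cokernel.π_desc_assoc, kernel.lift_ι]
      exact (Abelian.coimage.fac _).symm
    rw [e]
    infer_instance
  exact mono_of_mono _ (kernel.ι (K.d (b + 1) (b + 2)))

theorem shortExact_cycles_bdry (b : ℕ) :
    (ShortComplex.mk _ (cokernel.π (kernel.ι (K.d b (b + 1)))) (cokernel.condition _)).ShortExact :=
  { exact := ShortComplex.exact_of_g_is_cokernel _ (cokernelIsCokernel _)
    mono_f := inferInstanceAs (Mono (kernel.ι _))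
    epi_g := inferInstanceAs (Epi (cokernel.π _)) }

theorem shortExact_bdry_cycles (b : ℕ) :
    (ShortComplex.mk _ (cokernel.π (bdryIncl K b)) (cokernel.condition _)).ShortExact :=
  { exact := ShortComplex.exact_of_g_is_cokernel _ (cokernelIsCokernel _)
    mono_f := inferInstanceAs (Mono (bdryIncl K b))
    epi_g := inferInstanceAs (Epi (cokernel.π _)) }

/-- The cocycles in degree zero. -/
def zeroCyclesIso : kernel (K.d 0 1) ≅ K.cycles 0 :=
  IsLimit.conePointUniqueUpToIso (kernelIsKernel (K.d 0 1)) (K.cyclesIsKernel 0 1 (CochainComplex.next ℕ 0))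

variable [∀ i, Injective (K.X i)]

/-- Vanishing of the cohomology of the image in degree `c` from the vanishing of derived functors of the
cohomology objects on the antidiagonal. -/
theorem isZero_homology_map (c : ℕ)
    (h : ∀ b ≤ c, IsZero ((Γ.rightDerived (c - b)).obj (K.homology b))) :
    IsZero (((Γ.mapHomologicalComplex (ComplexShape.up ℕ)).obj K).homology c) := by
  have key : ∀ b a : ℕ, (a + 1) + b = c → IsZero ((Γ.rightDerived (a + 1)).obj (kernel (K.d b (b + 1)))) := by
    intro b
    induction b with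
    | zero =>
      intro a ha
      have e : kernel (K.d 0 (0 + 1)) ≅ K.homology 0 :=
        zeroCyclesIso K ≪≫ asIso (K.homologyπ 0)
      exact ((show c - 0 = a + 1 by omega) ▸ h 0 c.zero_le).of_iso ((Γ.rightDerived (a + 1)).mapIso e)
    | succ b ih =>
      intro a ha
      obtain ⟨e⟩ := nonempty_cokernel_bdryIncl K b
      refine AffCritLib.isZero_rightDerived_mid Γ (shortExact_bdry_cycles K b) (a + 1) ?_
        (((show c - (b + 1) = a + 1 by omega) ▸ h (b + 1) (by omega)).of_iso ((Γ.rightDerived (a + 1)).mapIso e))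
      obtain ⟨Δ⟩ := RDerLib.nonempty_derivedLES Γ
      exact (Δ.exact₃ _ (shortExact_cycles_bdry K b) (a + 1) (a + 1 + 1) rfl).isZero_of_both_zeros
        ((Γ.isZero_rightDerived_obj_injective_succ a (K.X b)).eq_of_src _ _)
        ((ih (a + 1) (by omega)).eq_of_tgt _ _)
  refine (HomologicalComplex.exactAt_iff_isZero_homology _ _).1 ?_
  rcases c with _ | c
  · have hz : IsZero (Γ.obj (kernel (K.d 0 1))) := by
      have e : kernel (K.d 0 1) ≅ K.homology 0 :=
        zeroCyclesIso K ≪≫ asIso (K.homologyπ 0)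
      exact ((h 0 le_rfl).of_iso (Γ.rightDerivedZeroIsoSelf.app _).symm).of_iso (Γ.mapIso e)
    rw [HomologicalComplex.exactAt_iff' _ 0 0 1 (by simp) (by simp)]
    refine (ShortComplex.exact_iff_mono _ ?_).2 ?_
    · exact ((Γ.mapHomologicalComplex (ComplexShape.up ℕ)).obj K).shape _ _ (by simp)
    · show Mono (Γ.map (K.d 0 1))
      exact Preadditive.mono_of_isZero_kernel _ (hz.of_iso (PreservesKernel.iso Γ (K.d 0 1)).symm)
  · rw [HomologicalComplex.exactAt_iff' _ c (c + 1) (c + 2) (by simp) (by simp),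
      ShortComplex.exact_iff_epi_kernel_lift]
    haveI : Epi (Γ.map (cokernel.π (kernel.ι (K.d c (c + 1))))) :=
      SpSeqLib.epi_map_of_isZero_rightDerived_one Γ (shortExact_cycles_bdry K c) (key c 0 (by omega))
    haveI : Epi (Γ.map (bdryIncl K c)) := by
      obtain ⟨e⟩ := nonempty_cokernel_bdryIncl K c
      have hz : IsZero (Γ.obj (cokernel (bdryIncl K c))) := by
        have h0 := h (c + 1) le_rfl
        rw [Nat.sub_self] at h0
        exact (h0.of_iso (Γ.rightDerivedZeroIsoSelf.app _).symm).of_iso (Γ.mapIso e)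
      have hS := shortExact_bdry_cycles K c
      exact (ShortComplex.exact_of_f_is_kernel ((ShortComplex.mk _ _ (cokernel.condition (bdryIncl K c))).map Γ)
        (KernelFork.mapIsLimit _ hS.fIsKernel Γ)).epi_f (hz.eq_of_tgt _ _)
    have e := map_lift_kernelComparison (K.d (c + 1) (c + 2)) Γ (K.d_comp_d c (c + 1) (c + 2))
    change Epi (kernel.lift (Γ.map (K.d (c + 1) (c + 2))) (Γ.map (K.d c (c + 1))) _)
    rw [← e]
    have e₂ : kernel.lift (K.d (c + 1) (c + 2)) (K.d c (c + 1)) (K.d_comp_d c (c + 1) (c + 2)) =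
        cokernel.π (kernel.ι (K.d c (c + 1))) ≫ bdryIncl K c := (cokernel.π_desc _ _ _).symm
    rw [e₂, Functor.map_comp]
    infer_instance

end Groth.Agent.EtDepthLib
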