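import Groth.Agent.SuppCoh.Edge
import Groth.Prelude.Def_EtDepth

/-!
# Depth in terms of the unit and higher direct images
-/

set_option autoImplicit false
set_option linter.style.haveILetI false
set_option backward.isDefEq.respectTransparency false
set_option backward.isDefEq.respectTransparency.types false
set_option maxHeartbeats 1000000

universe u

open CategoryTheory CategoryTheory.Limits AlgebraicGeometry Opposite

noncomputable section

namespace Groth.Agent.EtDepthLib

variable {X U : Scheme.{u}} (j : U ⟶ X) [IsOpenImmersion j] [EtCoh.BCCont j] (F : EtCoh.Ab X)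

/-- Local cohomology in degree zero is the kernel of the unit. -/
theorem nonempty_locCoh_zero_iso : Nonempty ((EtDual.locCoh j 0).obj F ≅ kernel (EtDual.unitApp j F)) := by
  haveI : PreservesFiniteLimits (EtDual.secSupp j) :=
    ((Functor.preservesFiniteLimits_tfae (EtDual.secSupp j)).out 2 3).1
      fun _ _ f => SuppCoh.preservesKernel_secSupp j f
  exact ⟨(EtDual.secSupp j).rightDerivedZeroIsoSelf.app F⟩

theorem isZero_locCoh_zero_iff : IsZero ((EtDual.locCoh j 0).obj F) ↔ Mono (EtDual.unitApp j F) := by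
  obtain ⟨e⟩ := nonempty_locCoh_zero_iso j F
  refine ⟨fun h => Preadditive.mono_of_kernel_zero ((h.of_iso e.symm).eq_of_src _ _), fun h => ?_⟩
  exact (isZero_kernel_of_mono _).of_iso e

theorem isZero_locCoh_one_iff : IsZero ((EtDual.locCoh j 1).obj F) ↔ Epi (EtDual.unitApp j F) := by
  let R := InjectiveResolution.of F
  obtain ⟨e⟩ := LocCohLib.nonempty_cokernel_iso j F R
  let e' := e ≪≫ (R.isoRightDerivedObj (EtDual.secSupp j) 1).symm
  refine ⟨fun h => Abelian.epi_of_cokernel_π_eq_zero _ ((h.of_iso e').eq_of_tgt _ _), fun h => ?_⟩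
  exact (isZero_cokernel_of_epi _).of_iso e'.symm

theorem isZero_locCoh_succ_iff (p : ℕ) :
    IsZero ((EtDual.locCoh j (p + 2)).obj F) ↔ IsZero ((EtCoh.Rpush j (p + 1)).obj ((EtCoh.pull j).obj F)) := by
  let R := InjectiveResolution.of F
  obtain ⟨e⟩ := LocCohLib.nonempty_iso_succ j F R p
  exact (e ≪≫ (R.isoRightDerivedObj (EtDual.secSupp j) (p + 2)).symm).isZero_iff.symm

/-- Depth in terms of the unit and higher direct images. -/
theorem depthGE_iff (n : ℕ) : EtDepth.DepthGE j F n ↔
    (1 ≤ n → Mono (EtDual.unitApp j F)) ∧ (2 ≤ n → IsIso (EtDual.unitApp j F)) ∧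
      ∀ q, 1 ≤ q → q + 2 ≤ n → IsZero ((EtCoh.Rpush j q).obj ((EtCoh.pull j).obj F)) := by
  refine ⟨fun h => ⟨fun hn => (isZero_locCoh_zero_iff j F).1 (h 0 hn), fun hn => ?_, fun q hq hqn => ?_⟩, ?_⟩
  · haveI := (isZero_locCoh_zero_iff j F).1 (h 0 (by omega))
    haveI := (isZero_locCoh_one_iff j F).1 (h 1 (by omega))
    exact isIso_of_mono_of_epi _
  · obtain ⟨q, rfl⟩ := Nat.exists_eq_succ_of_ne_zero (Nat.one_le_iff_ne_zero.1 hq)
    exact (isZero_locCoh_succ_iff j F q).1 (h (q + 2) (by omega))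
  · rintro ⟨h0, h1, h2⟩ p hp
    rcases p with _ | _ | p
    · exact (isZero_locCoh_zero_iff j F).2 (h0 hp)
    · haveI := h1 hp
      exact (isZero_locCoh_one_iff j F).2 inferInstance
    · exact (isZero_locCoh_succ_iff j F p).2 (h2 (p + 1) (by omega) (by omega))

/-- Depth passes to étale schemes. -/
theorem depthGE_pull {X' U' : Scheme.{u}} (g : X' ⟶ X) [AlgebraicGeometry.Etale g] (j' : U' ⟶ X') [IsOpenImmersion j']
    [EtCoh.BCCont j'] (g' : U' ⟶ U) (h : IsPullback g' j' j g) (n : ℕ) (hF : EtDepth.DepthGE j F n) :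
    EtDepth.DepthGE j' ((EtCoh.pull g).obj F) n := fun p hp => by
  obtain ⟨e⟩ := SuppCoh.nonempty_locCoh_pull j g j' g' h p F
  haveI : (EtCoh.pull g).Additive := (EtCoh.pullPushAdj g).left_adjoint_additive
  exact ((EtCoh.pull g).map_isZero (hF p hp)).of_iso e.symm

end Groth.Agent.EtDepthLib
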