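import Groth.Agent.AcycCritLib.EtRestLoc
import Groth.Agent.UAcycBCLib.Fibre
import Groth.Prelude.Def_EtDepth

/-!
# Local acyclicity for `ℤ/ℓ` and acyclic fibres of strict localizations
-/

set_option autoImplicit false
set_option linter.style.haveILetI false
set_option linter.unusedSectionVars false
set_option backward.isDefEq.respectTransparency false
set_option backward.isDefEq.respectTransparency.types false
set_option maxHeartbeats 1000000
set_option synthInstance.maxHeartbeats 400000

universe u

open CategoryTheory CategoryTheory.Limits AlgebraicGeometry Opposite IsLocalRing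
open scoped TensorProduct

noncomputable section

namespace Groth.Agent.EtDepthLib

attribute [local instance] Groth.Agent.S0101.result

/-- On a connected scheme degree zero cohomology of a constant sheaf is the group of coefficients. -/
theorem nonempty_H0_const_equiv {X : Scheme.{u}} [ConnectedSpace X] (M : Type) [AddCommGroup M] :
    Nonempty (EtCoh.H X (EtCoh.const X M) 0 ≃ M) := by
  haveI : ConnectedSpace ↥(EtCoh.top X).left := ‹ConnectedSpace X›
  let z₀ : (EtCoh.top X).left := Classical.arbitrary _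
  exact ⟨((Sheaf.H.equiv₀ (EtCoh.const X M) (EtCore.topIsTerminal X)).trans
    (EtTraceLib.constEquiv (AddCommGrpCat.of (ULift.{u + 1} M)) (EtCoh.top X))).toEquiv.trans
    { toFun := fun c => (c z₀).down
      invFun := fun m => LocallyConstant.const _ (ULift.up m)
      left_inv := fun c => LocallyConstant.ext fun z => c.isLocallyConstant.apply_eq_of_preconnectedSpace z₀ z
      right_inv := fun m => rfl }⟩

theorem connectedSpace_spec (R : Type u) [CommRing R] [IsLocalRing R] : ConnectedSpace ↥(Spec (CommRingCat.of R)) :=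
  connectedSpace_iff_clopen.2 ⟨⟨closedPoint R⟩, fun s hs => by
    by_cases h : closedPoint R ∈ s
    · exact Or.inr (Set.eq_univ_of_forall fun t => (IsLocalRing.specializes_closedPoint t).mem_open hs.2 h)
    · exact Or.inl (Set.eq_empty_of_forall_notMem fun t ht =>
        h ((IsLocalRing.specializes_closedPoint t).mem_closed hs.1 ht))⟩

variable {X S : Scheme.{u}} (f : X ⟶ S) (ℓ m : ℕ)

/-- Local acyclicity for `ℤ/ℓ` gives acyclic fibres of strict localizations. -/
theorem strictFibres_of_isLocAcyclicLE (hℓ : ℓ.Prime) (hf : EtDepth.IsLocAcyclicLE f ℓ m) :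
    AcycCritLib.StrictFibres f {ℓ} m := by
  intro x RY RX _ _ _ _ _ _ _ _ _ _ _ hlh hψ y Ω _ _ _ _
  haveI := Hensel.IsStrictHenselization.henselian (R := X.presheaf.stalk x) (S := RX)
  haveI : IsSepClosed (ResidueField RX) :=
    (Hensel.IsStrictHenselization.isSepClosure (R := X.presheaf.stalk x) (S := RX)).sep_closed
  haveI := connectedSpace_spec RX
  let q := EtAcyc.geomPt (Spec (CommRingCat.of RY)) y Ω
  letI : Algebra RY Ω := (Spec.preimage q).hom.toAlgebra
  have hq : Spec.map (CommRingCat.ofHom (algebraMap RY Ω)) = q := Spec.map_preimage q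
  show EtAcyc.IsAcyclicSchemeN {ℓ} m (pullback (Spec.map (CommRingCat.ofHom (algebraMap RY RX))) q)
  rw [← hq]
  refine AcycCritLib.isAcyclicSchemeN_of_iso (pullbackSpecIso RY RX Ω) ?_
  let φ := Spec.map (CommRingCat.ofHom (algebraMap RX (RX ⊗[RY] Ω)))
  have H := hf x RY RX hψ Ω
  let e : ∀ k, EtCoh.H _ ((EtCoh.pull φ).obj (EtCoh.const (Spec (CommRingCat.of RX)) (ZMod ℓ))) k ≃+
      EtCoh.H _ (EtCoh.const (Spec (CommRingCat.of (RX ⊗[RY] Ω))) (ZMod ℓ)) k := fun k =>
    ((EtCoh.HF _ k).mapIso (EtCore.pullConst φ (ZMod ℓ))).addCommGroupIsoToAddEquiv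
  obtain ⟨e₀⟩ := nonempty_H0_const_equiv (X := Spec (CommRingCat.of RX)) (ZMod ℓ)
  obtain ⟨hne, hc⟩ := SmoothBCLib.connected_of_H0_const hℓ
    ((e 0).toEquiv.symm.trans ((Equiv.ofBijective _ (H 0 m.zero_le)).symm.trans e₀))
  refine ⟨hne, hc, fun ℓ' _ hℓ' k hk hkm => ?_⟩
  obtain rfl : ℓ' = ℓ := hℓ'
  obtain ⟨k, rfl⟩ := Nat.exists_eq_succ_of_ne_zero (Nat.one_le_iff_ne_zero.1 hk)
  haveI := EtVanish.subsingleton_H_strictlyHenselian RX (EtCoh.const (Spec (CommRingCat.of RX)) (ZMod ℓ')) k
  haveI := (H (k + 1) hkm).2.subsingleton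
  exact (e (k + 1)).symm.toEquiv.subsingleton

end Groth.Agent.EtDepthLib
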