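import Groth.Agent.EtDepthLib.WeakBC
import Groth.Agent.SuppCoh.Excision
import Groth.Agent.SmoothPushLib.Spec
import Groth.Agent.S0538

/-!
# Sheaves supported on a closed subset and strict localizations
-/

set_option autoImplicit false
set_option linter.style.haveILetI false
set_option linter.unusedSectionVars false
set_option backward.isDefEq.respectTransparency false
set_option backward.isDefEq.respectTransparency.types false
set_option maxHeartbeats 1000000

universe u

open CategoryTheory CategoryTheory.Limits AlgebraicGeometry Opposite IsLocalRing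
open Groth.Agent.EtPtsLib

attribute [local instance] Groth.Agent.S0101.result

noncomputable section

namespace Groth.Agent.EtDepthLib

variable {X U : Scheme.{u}}

/-- The closed point is the only point of a strict localization over its centre. -/
theorem eq_closedPoint_of_specOf (y : X) (R : Type u) [CommRing R] [IsLocalRing R]
    [Algebra (X.presheaf.stalk y) R] [IsLocalHom (algebraMap (X.presheaf.stalk y) R)]
    [Hensel.IsStrictHenselization (X.presheaf.stalk y) R] (t : Spec (CommRingCat.of R))
    (ht : Hens2.specOf X y R t = y) : t = closedPoint R := by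
  let φ := Spec.map (CommRingCat.ofHom (algebraMap (X.presheaf.stalk y) R))
  have h1 : φ t = closedPoint (X.presheaf.stalk y) :=
    (X.fromSpecStalk y).isEmbedding.injective
      (((Scheme.Hom.comp_apply _ _ _).symm.trans ht).trans Scheme.fromSpecStalk_closedPoint.symm)
  refine PrimeSpectrum.ext ((IsLocalRing.le_maximalIdeal t.isPrime.ne_top).antisymm ?_)
  refine (S0538.result (X.presheaf.stalk y) R).symm.trans_le (Ideal.map_le_iff_le_comap.2 ?_)
  exact (congrArg PrimeSpectrum.asIdeal h1).ge

/-- A nonempty closed subset of a scheme has a point without proper generalizations in it. -/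
theorem exists_maximal_mem {Z : Scheme.{u}} {T : Set Z} (hT : IsClosed T) (hne : T.Nonempty) :
    ∃ w ∈ T, ∀ t ∈ T, t ⤳ w → t = w := by
  haveI : Nonempty T := hne.to_subtype
  haveI : QuasiSober T := hT.isClosedEmbedding_subtypeVal.quasiSober
  let x₀ : T := Classical.arbitrary T
  obtain ⟨w, hw⟩ : ∃ w, IsGenericPoint w (irreducibleComponent x₀) :=
    QuasiSober.sober isIrreducible_irreducibleComponent isClosed_irreducibleComponent
  refine ⟨w, w.2, fun t ht htw => congrArg Subtype.val (?_ : (⟨t, ht⟩ : T) = w)⟩
  have hx : (⟨t, ht⟩ : T) ⤳ w := Topology.IsInducing.subtypeVal.specializes_iff.1 htw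
  have h2 : irreducibleComponent x₀ ⊆ closure {(⟨t, ht⟩ : T)} := by
    rw [← hw.def]
    exact closure_minimal (Set.singleton_subset_iff.mpr hx.mem_closure) isClosed_closure
  have h3 : closure {(⟨t, ht⟩ : T)} = irreducibleComponent x₀ :=
    ((irreducibleComponent_mem_irreducibleComponents x₀).eq_of_subset isIrreducible_singleton.closure h2).symm
  exact (show IsGenericPoint (⟨t, ht⟩ : T) (irreducibleComponent x₀) from h3).eq hw

variable (j : U ⟶ X) [IsOpenImmersion j]

/-- A sheaf supported off `j` vanishes if, on the strict localizations at the points off `j`, it has no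
nonzero sections supported at the closed point. -/
theorem isZero_of_secSupp_punctured (H : EtCoh.Ab X) (hH : IsZero ((EtCoh.pull j).obj H))
    (h : ∀ y : X, y ∉ Set.range j.base → ∀ (R : Type u) [CommRing R] [IsLocalRing R]
      [Algebra (X.presheaf.stalk y) R] [IsLocalHom (algebraMap (X.presheaf.stalk y) R)]
      [Hensel.IsStrictHenselization (X.presheaf.stalk y) R],
      IsZero ((EtDual.secSupp (FEt.puncturedSpec R).ι).obj ((EtCoh.pull (Hens2.specOf X y R)).obj H))) :
    IsZero H := by
  suffices key : ∀ (W : X.Etale) (s : EtCoh.sect H W), s = 0 by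
    rw [IsZero.iff_id_eq_zero]
    refine ObjectProperty.hom_ext _ (NatTrans.ext (funext fun W => ?_))
    ext s
    exact (key W.unop s).trans rfl
  intro W s
  by_contra hs
  have hne : (EtShriek.sectSupp H W s).Nonempty := by
    by_contra he
    rw [Set.not_nonempty_iff_eq_empty] at he
    refine hs (sect_ext H W s 0 fun Ω _ _ ξ l => ?_)
    rw [(germ_eq_zero_iff ξ H l s).2 (he ▸ Set.notMem_empty _)]
    exact (map_zero _).symm
  obtain ⟨w, hwT, hmax⟩ := exists_maximal_mem (isClosed_sectSupp H W s) hne
  let y : X := W.hom w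
  have hy : y ∉ Set.range j.base := fun hyr => by
    obtain ⟨l, hl⟩ := exists_lift_geomPt (X := X) w
    obtain ⟨ζ, hζ⟩ := exists_comp_eq j (geomPt y) ((geomPt_default y).symm ▸ hyr)
    have hz : IsZero ((EtCoh.stalk (geomPt y)).obj H) := by
      rw [← hζ]
      haveI : (EtCoh.stalk ζ).Additive := Functor.additive_of_preserves_binary_products _
      exact ((EtCoh.stalk ζ).map_isZero hH).of_iso ((pullStalkIso j ζ AddCommGrpCat.{u + 1}).app H).symm
    exact (germ_eq_zero_iff _ H l s).1 ((AddCommGrpCat.subsingleton_of_isZero hz).elim _ _) (hl.symm ▸ hwT)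
  obtain ⟨R, _, _, _, _, hR⟩ := Henselization.exists_strictHenselization (R := X.presheaf.stalk y)
  haveI := hR
  haveI := Hensel.IsStrictHenselization.henselian (R := X.presheaf.stalk y) (S := R)
  haveI : IsSepClosed (ResidueField R) :=
    (Hensel.IsStrictHenselization.isSepClosure (R := X.presheaf.stalk y) (S := R)).sep_closed
  obtain ⟨m, hm, hmc, -⟩ := SmoothPushLib.exists_strictLoc_lift y R W w rfl
  let σ := Hens2.specOf X y R
  let G := (EtCoh.pull σ).obj H
  let g : EtCoh.top (Spec (CommRingCat.of R)) ⟶ (EtCoh.bc σ).obj W :=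
    MorphismProperty.Over.homMk (pullback.lift m (𝟙 _) (by rw [hm, Category.id_comp]))
      (pullback.lift_snd _ _ _)
  let sR : EtCoh.sect G (EtCoh.top _) :=
    G.obj.map g.op (((EtCoh.pullPushAdj σ).unit.app H).hom.app (op W) s)
  have hgerm : ∀ (Ω : Type u) [Field Ω] [IsSepClosed Ω] (ζ : Spec (CommRingCat.of Ω) ⟶ Spec (CommRingCat.of R)),
      germ ζ G (topLift ζ) sR = 0 ↔ m (ζ default) ∉ EtShriek.sectSupp H W s := fun Ω _ _ ζ => by
    let l' : (Scheme.pointSmallEtale (ζ ≫ σ)).fiber.obj W :=
      Over.homMk (ζ ≫ m) (by show (ζ ≫ m) ≫ W.hom = _; rw [Category.assoc, hm]; rfl)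
    have hl : liftBc σ ζ W l' = (Scheme.pointSmallEtale ζ).fiber.map g (topLift ζ) := by
      refine fiber_bc_ext σ ζ ?_
      rw [liftHom_liftBc_fst]
      show ζ ≫ m = (ζ ≫ pullback.lift m (𝟙 _) _) ≫ pullback.fst _ _
      rw [Category.assoc, pullback.lift_fst]
    rw [germ_map ζ G g (topLift ζ)]
    have hiff := germ_unit_eq_iff σ ζ H ((Scheme.pointSmallEtale ζ).fiber.map g (topLift ζ)) l' hl s 0
    simp only [map_zero] at hiff
    refine hiff.trans ?_
    rw [germ_eq_zero_iff]
    exact Iff.of_eq (congrArg (fun z => z ∉ EtShriek.sectSupp H W s) (Scheme.Hom.comp_apply ζ m default))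
  have hne0 : sR ≠ 0 := fun h0 => by
    refine (hgerm _ (Spec.map (CommRingCat.ofHom (residue R)))).1 (by rw [h0]; exact map_zero _) ?_
    have e : (Spec.map (CommRingCat.ofHom (residue R))) default = closedPoint R := by
      rw [Subsingleton.elim (default : Spec (CommRingCat.of (ResidueField R))) (closedPoint (ResidueField R))]
      exact IsLocalRing.comap_closedPoint (residue R)
    rw [e, hmc]
    exact hwT
  let k := (FEt.puncturedSpec R).ι
  have hk : (EtDual.unitApp k G).hom.app (op (EtCoh.top _)) sR = 0 := by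
    refine sect_ext ((EtCoh.pull k).obj G) ((EtCoh.bc k).obj (EtCoh.top _)) _ 0 fun Ω _ _ ζ l => ?_
    let l' := topLift (ζ ≫ k)
    have hl : liftBc k ζ (EtCoh.top _) l' = l := by
      refine fiber_bc_ext k ζ ?_
      rw [liftHom_liftBc_fst]
      have h1 : pullback.fst (EtCoh.top (Spec (CommRingCat.of R))).hom k =
          pullback.snd (EtCoh.top (Spec (CommRingCat.of R))).hom k ≫ k :=
        (Category.comp_id _).symm.trans pullback.condition
      show ζ ≫ k = liftHom ζ l ≫ pullback.fst _ _
      rw [h1, ← Category.assoc]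
      exact congrArg (· ≫ k) (liftHom_comp ζ l).symm
    have hiff := germ_unit_eq_iff k ζ G l l' hl sR 0
    simp only [map_zero] at hiff
    refine (hiff.2 ((hgerm Ω (ζ ≫ k)).2 fun hmem => ?_)).trans (map_zero _).symm
    have hwt : m ((ζ ≫ k) default) ⤳ w := hmc ▸
      (IsLocalRing.specializes_closedPoint ((ζ ≫ k) default)).map m.continuous
    have e := hmax _ hmem hwt
    have h2 : σ ((ζ ≫ k) default) = y := by
      show Hens2.specOf X y R ((ζ ≫ k) default) = y
      rw [← hm]
      exact (Scheme.Hom.comp_apply m W.hom _).trans (congrArg W.hom e)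
    have h3 := eq_closedPoint_of_specOf y R _ h2
    rw [Scheme.Hom.comp_apply] at h3
    exact (ζ default).2 h3
  haveI : Mono (EtDual.unitApp k G) := Preadditive.mono_of_kernel_zero ((h y hy R).eq_of_src _ _)
  haveI : Mono ((EtDual.unitApp k G).hom.app (op (EtCoh.top (Spec (CommRingCat.of R))))) := inferInstance
  exact hne0 ((AddCommGrpCat.mono_iff_injective _).1 inferInstance (hk.trans (map_zero _).symm))

/-- Local cohomology along a smaller closed subset in the first nonvanishing degree. -/
theorem nonempty_locCoh_iso_secSupp {V : Scheme.{u}} (k : V ⟶ X) [IsOpenImmersion k]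
    (hUV : Set.range j.base ⊆ Set.range k.base) (F : EtCoh.Ab X) (N : ℕ)
    (h : ∀ p < N, IsZero ((EtDual.locCoh j p).obj F)) :
    Nonempty ((EtDual.locCoh k N).obj F ≅ (EtDual.secSupp k).obj ((EtDual.locCoh j N).obj F)) := by
  let R := InjectiveResolution.of F
  let j' : U ⟶ V := IsOpenImmersion.lift k j hUV
  haveI : IsOpenImmersion j' := by
    haveI : IsOpenImmersion (j' ≫ k) := by rw [IsOpenImmersion.lift_fac]; infer_instance
    exact IsOpenImmersion.of_comp j' k
  haveI : PreservesFiniteLimits (EtDual.secSupp k) :=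
    ((Functor.preservesFiniteLimits_tfae (EtDual.secSupp k)).out 2 3).1 fun _ _ f => SuppCoh.preservesKernel_secSupp k f
  haveI : ∀ i, Injective ((((EtDual.secSupp j).mapHomologicalComplex (ComplexShape.up ℕ)).obj R.cocomplex).X i) :=
    fun i => SuppCoh.injective_secSupp j (R.cocomplex.X i)
  have hz : ∀ q < N, IsZero ((((EtDual.secSupp j).mapHomologicalComplex (ComplexShape.up ℕ)).obj R.cocomplex).homology q) :=
    fun q hq => (h q hq).of_iso (R.isoRightDerivedObj (EtDual.secSupp j) q).symm
  obtain ⟨e⟩ := SuppCoh.nonempty_homology_map_iso _ N hz (EtDual.secSupp k)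
  let ec := (NatIso.mapHomologicalComplex (SuppCoh.secSuppCompIso j k j' (IsOpenImmersion.lift_fac _ _ hUV))
    (ComplexShape.up ℕ)).app R.cocomplex
  exact ⟨R.isoRightDerivedObj (EtDual.secSupp k) N ≪≫ (HomologicalComplex.homologyMapIso ec N).symm ≪≫ e ≪≫
    (EtDual.secSupp k).mapIso (R.isoRightDerivedObj (EtDual.secSupp j) N).symm⟩

/-- Local cohomology sheaves restrict to zero on the open subset. -/
theorem isZero_pull_locCoh (p : ℕ) (F : EtCoh.Ab X) : IsZero ((EtCoh.pull j).obj ((EtDual.locCoh j p).obj F)) := by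
  haveI : (EtCoh.pull j).Additive := (EtCoh.pullPushAdj j).left_adjoint_additive
  haveI : PreservesFiniteColimits (EtCoh.pull j) := EtCore.pull_preservesFiniteColimits j
  let R := InjectiveResolution.of F
  let K := ((EtDual.secSupp j).mapHomologicalComplex (ComplexShape.up ℕ)).obj R.cocomplex
  refine IsZero.of_iso ?_ ((EtCoh.pull j).mapIso (R.isoRightDerivedObj (EtDual.secSupp j) p) ≪≫
    ((K.sc p).mapHomologyIso (EtCoh.pull j)).symm)
  refine ShortComplex.isZero_homology_of_isZero_X₂ _ ?_
  exact SuppCoh.isZero_pull_secSupp j _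

end Groth.Agent.EtDepthLib
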