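import Groth.Agent.EtDepthLib.Dict
import Groth.Agent.EtDepthLib.Points
import Groth.Agent.CdFieldLib.Support
import Groth.Agent.CdFieldLib.Basic
import Groth.Agent.EtDepthLib.LocAcyc

/-!
# Torsion and supports of local cohomology sheaves
-/

set_option autoImplicit false
set_option linter.style.haveILetI false
set_option linter.unusedSectionVars false
set_option backward.isDefEq.respectTransparency false
set_option backward.isDefEq.respectTransparency.types false
set_option maxHeartbeats 1000000

universe u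

open CategoryTheory CategoryTheory.Limits AlgebraicGeometry Opposite IsLocalRing

attribute [local instance] Groth.Agent.S0101.result

noncomputable section

namespace Groth.Agent.EtDepthLib

/-- The two notions of `ℓ`-torsion agree. -/
theorem isLTorsion_iff {X : Scheme.{u}} {ℓ : ℕ} (hℓ : ℓ.Prime) (F : EtCoh.Ab X) :
    EtDepth.IsLTorsion ℓ F ↔ EtAcyc.IsLTorsion {ℓ} F :=
  (CdFieldLib.isLTorsion_singleton_iff hℓ).symm

/-- Local cohomology sheaves of torsion sheaves are torsion. -/
theorem isLTorsion_locCoh {X U : Scheme.{u}} (k : U ⟶ X) [IsOpenImmersion k] [QuasiCompact k] [EtCoh.BCCont k]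
    {L : Set ℕ} (M : EtCoh.Ab X) (hM : EtAcyc.IsLTorsion L M) (b : ℕ) :
    EtAcyc.IsLTorsion L ((EtDual.locCoh k b).obj M) := by
  let R := InjectiveResolution.of M
  have hG : EtAcyc.IsLTorsion L ((EtCoh.pull k).obj M) := AcycCompLib.isLTorsion_pull k hM
  rcases b with _ | _ | b
  · obtain ⟨a⟩ := nonempty_locCoh_zero_iso k M
    exact RpushTorsLib.isLTorsion_of_iso a.symm (CdFieldLib.isLTorsion_of_mono (kernel.ι _) hM)
  · obtain ⟨a⟩ := LocCohLib.nonempty_cokernel_iso k M R
    exact RpushTorsLib.isLTorsion_of_iso (a ≪≫ (R.isoRightDerivedObj (EtDual.secSupp k) 1).symm)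
      (CdFieldLib.isLTorsion_of_epi (cokernel.π _) (CdFieldLib.isLTorsion_push k hG))
  · obtain ⟨a⟩ := LocCohLib.nonempty_iso_succ k M R b
    exact RpushTorsLib.isLTorsion_of_iso (a ≪≫ (R.isoRightDerivedObj (EtDual.secSupp k) (b + 2)).symm)
      (RpushTorsLib.isLTorsion_Rpush k _ hG (b + 1))

/-- Local cohomology sheaves are supported off the open subscheme. -/
theorem supp_locCoh_subset {X U : Scheme.{u}} (k : U ⟶ X) [IsOpenImmersion k] (M : EtCoh.Ab X) (b : ℕ) :
    EtPBC.supp ((EtDual.locCoh k b).obj M) ⊆ (Set.range k.base)ᶜ := by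
  rintro x ⟨Ω, _, _, ξ, hξ, hz⟩ hx
  have h0 : ξ default = x := Set.mem_singleton_iff.1 (hξ ▸ Set.mem_range_self default)
  obtain ⟨ζ, hζ⟩ := EtPtsLib.exists_comp_eq k ξ (h0.symm ▸ hx)
  subst hζ
  haveI : (EtCoh.stalk ζ).Additive := Functor.additive_of_preserves_binary_products _
  exact hz (((EtCoh.stalk ζ).map_isZero (isZero_pull_locCoh k b M)).of_iso
    ((EtPtsLib.pullStalkIso k ζ AddCommGrpCat.{u + 1}).app _).symm)

/-- Acyclic fibres of strict localizations make the strict localizations surjective. -/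
theorem surjective_strictLoc {X S : Scheme.{u}} (f : X ⟶ S) {L : Set ℕ} {m : ℕ}
    (hst : AcycCritLib.StrictFibres f L m) (x : X) (RS RX : Type u) [CommRing RS] [CommRing RX] [IsLocalRing RS]
    [IsLocalRing RX]
    [Algebra (S.presheaf.stalk (f.base x)) RS] [IsLocalHom (algebraMap (S.presheaf.stalk (f.base x)) RS)]
    [Hensel.IsStrictHenselization (S.presheaf.stalk (f.base x)) RS]
    [Algebra (X.presheaf.stalk x) RX] [IsLocalHom (algebraMap (X.presheaf.stalk x) RX)]
    [Hensel.IsStrictHenselization (X.presheaf.stalk x) RX]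
    [Algebra RS RX] [IsLocalHom (algebraMap RS RX)]
    (h : (algebraMap RS RX).comp (algebraMap (S.presheaf.stalk (f.base x)) RS) =
      (algebraMap (X.presheaf.stalk x) RX).comp (f.stalkMap x).hom) :
    Function.Surjective (Spec.map (CommRingCat.ofHom (algebraMap RS RX))) := fun y => by
  let φ := Spec.map (CommRingCat.ofHom (algebraMap RS RX))
  let Ω := AlgebraicClosure ((Spec (CommRingCat.of RS)).residueField y)
  obtain ⟨⟨t⟩, -, -⟩ := hst x RS RX h y Ω
  refine ⟨pullback.fst φ (EtAcyc.geomPt _ y Ω) t, ?_⟩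
  refine ((Scheme.Hom.comp_apply _ _ _).symm.trans
    (congrArg (fun g => g t) (pullback.condition (f := φ) (g := EtAcyc.geomPt _ y Ω)))).trans ?_
  refine (Scheme.Hom.comp_apply _ _ _).trans ?_
  show (Spec.map _ ≫ (Spec (CommRingCat.of RS)).fromSpecResidueField y) _ = y
  exact (Scheme.Hom.comp_apply _ _ _).trans (Scheme.fromSpecResidueField_apply _ _)

end Groth.Agent.EtDepthLib
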