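import Groth.Agent.EtDepthLib.WeakBC
import Groth.Agent.SuppCoh.Torsion
import Groth.Agent.SmoothBCLib.LTorsLocConst
import Groth.Agent.SmoothBCLib.LARelFibre
import Groth.Agent.EtDepthLib.LocAcyc
import Groth.Agent.EtPtsLib.SepClosedField

/-!
# Depth of constant torsion sheaves
-/

set_option autoImplicit false
set_option linter.style.haveILetI false
set_option linter.unusedSectionVars false
set_option backward.isDefEq.respectTransparency false
set_option backward.isDefEq.respectTransparency.types false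
set_option maxHeartbeats 1000000

universe u

open CategoryTheory CategoryTheory.Limits AlgebraicGeometry Opposite IsLocalRing
open Groth.Agent.EtPtsLib Groth.Agent.FLCLib Groth.Agent.EtTraceLib

attribute [local instance] Groth.Agent.S0101.result

noncomputable section

namespace Groth.Agent.EtDepthLib

theorem isConstOn_cst (X : Scheme.{u}) (M : AddCommGrpCat.{u + 1}) :
    FLCLib.IsConstOn (cSh X M) (EtCoh.top X) (cst M (EtCoh.top X)) := fun _ _ _ ξ _ => germ_cst_bijective ξ M _

/-- A sheaf on the spectrum of a separably closed field is constant. -/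
theorem exists_isConstOn_field (K : Type u) [Field K] [IsSepClosed K] (G : EtCoh.Ab (Spec (CommRingCat.of K))) :
    FLCLib.IsConstOn G (EtCoh.top _) (𝟙 (G.obj.obj (op (EtCoh.top _)))) := fun Ω _ _ ξ l => by
  haveI := subsingleton_fiber_top ξ
  rw [Subsingleton.elim l (topPt K ξ)]
  exact germ_top_bijective ξ _ (exists_top_hom_field K ξ) G.obj

/-- Inverse images of the sheaves on a separably closed point are constant torsion sheaves. -/
theorem exists_iso_cSh_of_field {Z : Scheme.{u}} (K : Type u) [Field K] [IsSepClosed K]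
    (t : Z ⟶ Spec (CommRingCat.of K)) (G : EtCoh.Ab (Spec (CommRingCat.of K))) (ℓ : ℕ) (hG : EtDepth.IsLTorsion ℓ G) :
    ∃ M : AddCommGrpCat.{u + 1}, (∀ m : M, ∃ c, ℓ ^ c • m = 0) ∧ Nonempty (cSh Z M ≅ (EtCoh.pull t).obj G) := by
  refine ⟨G.obj.obj (op (EtCoh.top _)), fun m => ?_,
    SmoothBCLib.nonempty_iso_C_of_isConstOn _
      (((exists_isConstOn_field K G).pull t).map (EtCore.bcTopIso t).inv)⟩
  obtain ⟨V, a, ⟨v, hv⟩, c, hc⟩ := hG (EtCoh.top _) m (closedPoint K)
  obtain ⟨l, -⟩ := exists_lift_geomPt v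
  refine ⟨c, ((exists_isConstOn_field K G) _ (geomPt (V.hom v)) ((Scheme.pointSmallEtale _).fiber.map a l)).1 ?_⟩
  let L := (Scheme.pointSmallEtale (geomPt (V.hom v))).fiber.map a l
  show germ (geomPt (V.hom v)) G L (ℓ ^ c • m) = germ (geomPt (V.hom v)) G L 0
  refine (germ_map (geomPt (V.hom v)) G a l (ℓ ^ c • m)).symm.trans
    (Eq.trans ?_ (germ_map (geomPt (V.hom v)) G a l 0))
  exact congrArg (germ (geomPt (V.hom v)) G l) (((map_nsmul _ _ _).trans hc).trans (map_zero _).symm)

variable {X U : Scheme.{u}} (k : U ⟶ X) [IsOpenImmersion k] [QuasiCompact k] [EtCoh.BCCont k]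
  (ℓ : ℕ) (hℓ : ℓ.Prime)

include hℓ in
theorem mono_unit_torsion (h : IsZero ((EtDual.locCoh k 0).obj (EtCoh.const X (ZMod ℓ)))) (M : AddCommGrpCat.{u + 1})
    (hM : ∀ m : M, ∃ c, ℓ ^ c • m = 0) : Mono (EtDual.unitApp k (cSh X M)) := by
  let κ := EtDual.unitApp k (cSh X M)
  suffices hk : ∀ (W : X.Etale) (s : EtCoh.sect (cSh X M) W), κ.hom.app (op W) s = 0 → s = 0 by
    refine Preadditive.mono_of_kernel_zero (ObjectProperty.hom_ext _ (NatTrans.ext (funext fun W => ?_)))
    ext s
    refine hk W.unop _ ?_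
    exact ConcreteCategory.congr_hom (NatTrans.congr_app (congrArg (fun a => a.hom) (kernel.condition κ)) W) s
  intro W s hs
  refine cval_ext fun z => ?_
  rw [cval_zero]
  obtain ⟨V, g, v, -, hV⟩ := isVal_cval W s z
  generalize cval W s z = c at hV
  by_contra hc
  let A := AddSubgroup.zmultiples c
  haveI : Finite A := by
    obtain ⟨e, he⟩ := hM c
    have : IsOfFinAddOrder c := isOfFinAddOrder_iff_nsmul_eq_zero.2 ⟨ℓ ^ e, pow_pos hℓ.pos e, he⟩
    exact this.finite_zmultiples.to_subtype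
  let M' := AddCommGrpCat.of A
  haveI : Finite M' := ‹Finite A›
  let i : M' ⟶ M := AddCommGrpCat.ofHom A.subtype
  haveI : Mono i := (AddCommGrpCat.mono_iff_injective i).2 Subtype.val_injective
  haveI : PreservesFiniteLimits (constantSheaf X.smallEtaleTopology AddCommGrpCat.{u + 1}) := by
    unfold constantSheaf; infer_instance
  haveI : Mono ((constantSheaf X.smallEtaleTopology AddCommGrpCat.{u + 1}).map i) := inferInstance
  haveI : (EtCoh.push k).IsRightAdjoint := (EtCoh.pullPushAdj k).isRightAdjoint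
  let b := (constantSheaf X.smallEtaleTopology AddCommGrpCat.{u + 1}).map i
  haveI : Mono ((EtCoh.push k).map ((EtCoh.pull k).map b)) := inferInstance
  haveI := (isZero_locCoh_zero_iff k _).1 (SuppCoh.isZero_locCoh_constantSheaf k ℓ hℓ 0 h _ M' rfl fun m => by
    obtain ⟨e, he⟩ := hM m.1
    exact ⟨e, Subtype.ext he⟩)
  let c' : M' := ⟨c, AddSubgroup.mem_zmultiples c⟩
  have e1 : b.hom.app (op V) (cst M' V c') = cst M V c := ConcreteCategory.congr_hom (cst_naturality i V) c'
  have e2 : κ.hom.app (op V) (cst M V c) = 0 := by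
    rw [← hV]
    exact (NatTrans.naturality_apply κ.hom g.op s).trans ((congrArg _ hs).trans (map_zero _))
  have e3 : (EtDual.unitApp k (cSh X M')).hom.app (op V) (cst M' V c') = 0 := by
    refine (AddCommGrpCat.mono_iff_injective (((EtCoh.push k).map ((EtCoh.pull k).map b)).hom.app (op V))).1
      inferInstance ?_
    rw [map_zero]
    refine Eq.trans ?_ e2
    rw [← e1]
    exact (ConcreteCategory.congr_hom (NatTrans.congr_app
      (congrArg (fun a => a.hom) ((EtCoh.pullPushAdj k).unit.naturality b)) (op V)) (cst M' V c')).symm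
  have e4 : cst M' V c' = 0 :=
    (AddCommGrpCat.mono_iff_injective ((EtDual.unitApp k (cSh X M')).hom.app (op V))).1 inferInstance
      (e3.trans (map_zero _).symm)
  exact hc (congrArg Subtype.val (cst_inj v (e4.trans (map_zero _).symm)))

include hℓ in
/-- Constant torsion sheaves inherit the depth of `ℤ/ℓ`. -/
theorem depthGE_torsion (n : ℕ) (h : EtDepth.DepthGE k (EtCoh.const X (ZMod ℓ)) n) (M : AddCommGrpCat.{u + 1})
    (hM : ∀ m : M, ∃ c, ℓ ^ c • m = 0) : EtDepth.DepthGE k (cSh X M) n := by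
  have hM' : ∀ m : M, ∃ e : ℕ, EtAcyc.PrimesIn {ℓ} e ∧ e • m = 0 := fun m => by
    obtain ⟨c, hc⟩ := hM m
    exact ⟨ℓ ^ c, ⟨pow_pos hℓ.pos c, fun p hp hd => Set.mem_singleton_iff.2
      ((Nat.prime_dvd_prime_iff_eq hp hℓ).1 (hp.dvd_of_dvd_pow hd))⟩, hc⟩
  have hloc : ∀ (z : X) (R : Type u) [CommRing R] [IsLocalRing R] [Algebra (X.presheaf.stalk z) R]
      [IsLocalHom (algebraMap (X.presheaf.stalk z) R)] [Hensel.IsStrictHenselization (X.presheaf.stalk z) R],
      2 ≤ n → ConnectedSpace ↥(pullback k (Hens2.specOf X z R)) ∧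
        ∀ q, 1 ≤ q → q + 2 ≤ n → Subsingleton (EtCoh.H (pullback k (Hens2.specOf X z R))
          (EtCoh.const _ (ZMod ℓ)) q) := by
    intro z R _ _ _ _ _ h2n
    haveI := Hensel.IsStrictHenselization.henselian (R := X.presheaf.stalk z) (S := R)
    haveI : IsSepClosed (ResidueField R) :=
      (Hensel.IsStrictHenselization.isSepClosure (R := X.presheaf.stalk z) (S := R)).sep_closed
    haveI := connectedSpace_spec R
    let ε := Hens2.specOf X z R
    let p := pullback.snd k ε
    haveI : (EtCoh.pull ε).Additive := (EtCoh.pullPushAdj ε).left_adjoint_additive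
    haveI : IsOpenImmersion p := MorphismProperty.pullback_snd _ _ ‹_›
    have hd : EtDepth.DepthGE p ((EtCoh.pull ε).obj (EtCoh.const X (ZMod ℓ))) n := fun q hq => by
      obtain ⟨e⟩ := nonempty_locCoh_specOf k z R q (EtCoh.const X (ZMod ℓ))
      exact ((EtCoh.pull ε).map_isZero (h q hq)).of_iso e.symm
    obtain ⟨-, hu, hR⟩ := (depthGE_iff p _ n).1 hd
    have hH : ∀ q ≤ n - 2, Function.Bijective (EtCore.Hpull p ((EtCoh.pull ε).obj (EtCoh.const X (ZMod ℓ))) q) :=
      fun q hq => (AcycCompLib.bijective_Hpull_of_unit p q _ (n - 2) (hu h2n) fun i hi1 hi => hR i hi1 (by omega)).1 hq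
    let eS : ∀ q, EtCoh.H _ ((EtCoh.pull ε).obj (EtCoh.const X (ZMod ℓ))) q ≃+
        EtCoh.H _ (EtCoh.const (Spec (CommRingCat.of R)) (ZMod ℓ)) q := fun q =>
      ((EtCoh.HF _ q).mapIso (EtCore.pullConst ε (ZMod ℓ))).addCommGroupIsoToAddEquiv
    let eP : ∀ q, EtCoh.H _ ((EtCoh.pull p).obj ((EtCoh.pull ε).obj (EtCoh.const X (ZMod ℓ)))) q ≃+
        EtCoh.H _ (EtCoh.const (pullback k ε) (ZMod ℓ)) q := fun q =>
      ((EtCoh.HF _ q).mapIso ((EtCoh.pull p).mapIso (EtCore.pullConst ε (ZMod ℓ)) ≪≫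
        EtCore.pullConst p (ZMod ℓ))).addCommGroupIsoToAddEquiv
    obtain ⟨e₀⟩ := nonempty_H0_const_equiv (X := Spec (CommRingCat.of R)) (ZMod ℓ)
    refine ⟨(SmoothBCLib.connected_of_H0_const hℓ ((eP 0).toEquiv.symm.trans
      ((Equiv.ofBijective _ (hH 0 (Nat.zero_le _))).symm.trans ((eS 0).toEquiv.trans e₀)))).2, fun q hq hqn => ?_⟩
    obtain ⟨q, rfl⟩ := Nat.exists_eq_succ_of_ne_zero (Nat.one_le_iff_ne_zero.1 hq)
    haveI := EtVanish.subsingleton_H_strictlyHenselian R ((EtCoh.pull ε).obj (EtCoh.const X (ZMod ℓ))) q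
    haveI := (hH (q + 1) (by omega)).2.subsingleton
    exact (eP (q + 1)).symm.toEquiv.subsingleton
  refine (depthGE_iff k _ n).2 ⟨fun hn => mono_unit_torsion k ℓ hℓ (h 0 hn) M hM, fun h2n => ?_, fun q hq hqn => ?_⟩
  · refine FLCLib.isIso_of_stalk _ fun Ω _ _ ξ => (ConcreteCategory.isIso_iff_bijective _).2 ?_
    let z := ξ default
    obtain ⟨R, _, _, _, _, hRs⟩ := Henselization.exists_strictHenselization (R := X.presheaf.stalk z)
    haveI := hRs
    haveI : IsSepClosed (ResidueField R) :=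
      (Hensel.IsStrictHenselization.isSepClosure (R := X.presheaf.stalk z) (S := R)).sep_closed
    haveI := (hloc z R h2n).1
    refine SmoothBCLib.bijective_stalk_of_default_eq _
      (SmoothBCLib.bijective_stalk_unit_of_bijective k (cSh X M) z R ?_) (SmoothBCLib.geomPt_default z R).symm
    exact SmoothBCLib.bijective_Hpull_zero_isConstOn R _ _
      (((isConstOn_cst X M).pull (Hens2.specOf X z R)).map (EtCore.bcTopIso (Hens2.specOf X z R)).inv)
  · refine SmoothBCLib.isZero_Rpush_of_strictLoc k _ q fun z R _ _ _ _ _ _ => ?_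
    have hs := (hloc z R (by omega)).2
    let P := pullback k (Hens2.specOf X z R)
    haveI : QuasiCompact (pullback.snd k (Hens2.specOf X z R)) := MorphismProperty.pullback_snd _ _ ‹_›
    haveI : CompactSpace ↥P := QuasiCompact.compactSpace_of_compactSpace (pullback.snd k (Hens2.specOf X z R))
    haveI : QuasiSeparatedSpace ↥P :=
      quasiSeparatedSpace_of_quasiSeparated (pullback.snd k (Hens2.specOf X z R))
    have hz := SmoothBCLib.isZero_HF_torsion_L (V := P) (L := {ℓ}) (n := n - 2)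
      (fun l _ hl j hj hjn => by obtain rfl : l = ℓ := hl; exact hs j hj (by omega)) q hq (by omega) M hM'
    obtain ⟨e⟩ := SmoothBCLib.nonempty_iso_C_of_isConstOn _
      ((((((isConstOn_cst X M).pull k).map (EtCore.bcTopIso k).inv).pull
        (pullback.fst k (Hens2.specOf X z R))).map (EtCore.bcTopIso _).inv))
    haveI := PBCLib.HF_additive P q
    exact (PBCLib.subsingleton_H_iff _ q).2 (hz.of_iso ((EtCoh.HF P q).mapIso e).symm)

end Groth.Agent.EtDepthLib
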