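import Groth.Agent.EtDepthLib.AtPoints
import Groth.Agent.EtDepthLib.AcycBC
import Groth.Agent.EtDepthLib.ClosedFibre
import Groth.Agent.EtDepthLib.ClosedPush
import Groth.Agent.EtDepthLib.Deviss
import Groth.Agent.EtDepthLib.PullFacts
import Groth.Agent.EtDepthLib.TorsionConst
import Groth.Agent.SmoothBCLib.LocAcycFibre
import Groth.Agent.S0540

/-!
# Depth of inverse images along locally acyclic morphisms
-/

set_option autoImplicit false
set_option linter.style.haveILetI false
set_option linter.unusedSectionVars false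
set_option backward.isDefEq.respectTransparency false
set_option backward.isDefEq.respectTransparency.types false
set_option maxHeartbeats 1000000

universe u

open CategoryTheory CategoryTheory.Limits AlgebraicGeometry Opposite IsLocalRing

attribute [local instance] Groth.Agent.S0101.result

noncomputable section

namespace Groth.Agent.EtDepthLib

/-- Sheaves supported at the closed point, pulled back to a scheme whose closed fibre is deep. -/
theorem isZero_locCoh_pull_supported {RS A : Type u} [CommRing RS] [HenselianLocalRing RS]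
    [IsSepClosed (ResidueField RS)] [CommRing A] [IsLocalRing A] {Xs : Scheme.{u}} [IsNoetherian Xs]
    (φ : Xs ⟶ Spec (CommRingCat.of RS)) {U : Scheme.{u}} (kX : U ⟶ Xs) [IsOpenImmersion kX]
    [EtCoh.BCCont kX] (iA : Spec (CommRingCat.of A) ⟶ Xs) [IsClosedImmersion iA]
    (hA : ∀ a : Spec (CommRingCat.of A), a ≠ closedPoint A → iA a ∈ Set.range kX.base)
    (pA : Spec (CommRingCat.of A) ⟶ Spec (CommRingCat.of (ResidueField RS)))
    (sq : IsPullback iA pA φ (Spec.map (CommRingCat.ofHom (residue RS))))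
    (ℓ : ℕ) (hℓ : ℓ.Prime) (q : ℕ)
    (hq : EtDepth.DepthGE (FEt.puncturedSpec A).ι (EtCoh.const (Spec (CommRingCat.of A)) (ZMod ℓ)) q)
    (H : EtCoh.Ab (Spec (CommRingCat.of RS))) (hH : EtDepth.IsLTorsion ℓ H)
    (hs : EtPBC.supp H ⊆ {closedPoint RS}) (a : ℕ) (ha : a < q) :
    IsZero ((EtDual.locCoh kX a).obj ((EtCoh.pull φ).obj H)) := by
  let i := Spec.map (CommRingCat.ofHom (residue RS))
  haveI : IsClosedImmersion i := IsClosedImmersion.spec_of_surjective _ residue_surjective
  have hri : EtPBC.supp H ⊆ Set.range i.base := fun z hz =>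
    ⟨closedPoint (ResidueField RS), (IsLocalRing.comap_closedPoint (residue RS)).trans (Set.mem_singleton_iff.1 (hs hz)).symm⟩
  haveI := CdFieldLib.isIso_unit_of_supp_closed i H hri
  let G := (EtCoh.pull i).obj H
  have hG : EtDepth.IsLTorsion ℓ G :=
    (isLTorsion_iff hℓ G).2 (AcycCompLib.isLTorsion_pull i ((isLTorsion_iff hℓ H).1 hH))
  haveI := EtPtsLib.isIso_baseChange0 i φ iA pA sq.flip G
  let e : (EtCoh.pull φ).obj H ≅ (EtCoh.push iA).obj ((EtCoh.pull pA).obj G) :=
    (EtCoh.pull φ).mapIso (asIso ((EtCoh.pullPushAdj i).unit.app H)) ≪≫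
      asIso (EtCoh.baseChange0 i φ iA pA sq.flip.w G)
  obtain ⟨M, hM, ⟨eM⟩⟩ := exists_iso_cSh_of_field (ResidueField RS) pA G ℓ hG
  haveI : TopologicalSpace.NoetherianSpace ↥(Spec (CommRingCat.of A)) :=
    iA.isClosedEmbedding.isInducing.noetherianSpace
  haveI : QuasiCompact (FEt.puncturedSpec A).ι := by
    haveI : CompactSpace ↥(FEt.puncturedSpec A : Scheme.{u}) :=
      isCompact_iff_compactSpace.1 (TopologicalSpace.NoetherianSpace.isCompact _)
    exact quasiCompact_of_compactSpace _
  have hd := depthGE_torsion (FEt.puncturedSpec A).ι ℓ hℓ q hq M hM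
  let kZ := pullback.fst iA kX
  haveI : IsOpenImmersion kZ := MorphismProperty.pullback_fst _ _ ‹_›
  have hz : IsZero ((EtDual.locCoh kZ a).obj ((EtCoh.pull pA).obj G)) := by
    refine (SuppCoh.isZero_locCoh_of_range_subset (FEt.puncturedSpec A).ι kZ ?_ _ q hd a ha).of_iso
      ((EtDual.locCoh kZ a).mapIso eM.symm)
    rintro _ ⟨z, rfl⟩
    obtain ⟨u, hu⟩ := hA ((FEt.puncturedSpec A).ι z) z.2
    obtain ⟨w, hw, -⟩ := Scheme.Pullback.exists_preimage_pullback (f := iA) (g := kX) _ u hu.symm
    exact ⟨w, hw⟩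
  exact (isZero_locCoh_push iA kX kZ (pullback.snd iA kX) (IsPullback.of_hasPullback iA kX) _ a hz).of_iso
    ((EtDual.locCoh kX a).mapIso e)

/-- Local cohomology along a closed subset from the local cohomology sheaves along a larger one. -/
theorem isZero_locCoh_of_smaller {X U V : Scheme.{u}} (j : U ⟶ X) [IsOpenImmersion j] (k : V ⟶ X) [IsOpenImmersion k]
    (hUV : Set.range j.base ⊆ Set.range k.base) (F : EtCoh.Ab X) (c : ℕ)
    (h : ∀ b ≤ c, IsZero ((EtDual.locCoh k (c - b)).obj ((EtDual.locCoh j b).obj F))) :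
    IsZero ((EtDual.locCoh k c).obj F) := by
  let R := InjectiveResolution.of F
  let j' : U ⟶ V := IsOpenImmersion.lift k j hUV
  haveI : IsOpenImmersion j' := by
    haveI : IsOpenImmersion (j' ≫ k) := by rw [IsOpenImmersion.lift_fac]; infer_instance
    exact IsOpenImmersion.of_comp j' k
  haveI : PreservesFiniteLimits (EtDual.secSupp k) :=
    ((Functor.preservesFiniteLimits_tfae (EtDual.secSupp k)).out 2 3).1 fun _ _ f => SuppCoh.preservesKernel_secSupp k f
  let K := ((EtDual.secSupp j).mapHomologicalComplex (ComplexShape.up ℕ)).obj R.cocomplex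
  haveI : ∀ i, Injective (K.X i) := fun i => SuppCoh.injective_secSupp j (R.cocomplex.X i)
  have hz := isZero_homology_map (EtDual.secSupp k) K c fun b hb =>
    (h b hb).of_iso (((EtDual.secSupp k).rightDerived (c - b)).mapIso (R.isoRightDerivedObj (EtDual.secSupp j) b).symm)
  let ec := (NatIso.mapHomologicalComplex (SuppCoh.secSuppCompIso j k j' (IsOpenImmersion.lift_fac _ _ hUV))
    (ComplexShape.up ℕ)).app R.cocomplex
  exact hz.of_iso (R.isoRightDerivedObj (EtDual.secSupp k) c ≪≫ (HomologicalComplex.homologyMapIso ec c).symm)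

/-- The inequality for strict localizations. -/
theorem depthGE_pull_strictLoc {RS RX : Type u} [CommRing RS] [HenselianLocalRing RS]
    [IsSepClosed (ResidueField RS)] [CommRing RX] [IsLocalRing RX] [IsNoetherianRing RX]
    (φ : Spec (CommRingCat.of RX) ⟶ Spec (CommRingCat.of RS)) (hφ : φ (closedPoint RX) = closedPoint RS)
    (hsurj : Function.Surjective φ) (ℓ : ℕ) (hℓ : ℓ.Prime) (m p q : ℕ) (hst : AcycCritLib.StrictFibres φ {ℓ} m)
    {A : Type u} [CommRing A] [IsLocalRing A] (iA : Spec (CommRingCat.of A) ⟶ Spec (CommRingCat.of RX))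
    [IsClosedImmersion iA] (hiA : iA (closedPoint A) = closedPoint RX)
    (pA : Spec (CommRingCat.of A) ⟶ Spec (CommRingCat.of (ResidueField RS)))
    (sqA : IsPullback iA pA φ (Spec.map (CommRingCat.ofHom (residue RS))))
    (hq : EtDepth.DepthGE (FEt.puncturedSpec A).ι (EtCoh.const (Spec (CommRingCat.of A)) (ZMod ℓ)) q)
    (M : EtCoh.Ab (Spec (CommRingCat.of RS))) (hM : EtDepth.IsLTorsion ℓ M)
    (hp : EtDepth.DepthGE (FEt.puncturedSpec RS).ι M p) :
    EtDepth.DepthGE (FEt.puncturedSpec RX).ι ((EtCoh.pull φ).obj M) (min (p + q) (m + 2)) := by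
  let V := FEt.puncturedSpec RS
  let U := φ ⁻¹ᵁ V
  haveI : QuasiCompact V.ι := by
    have hc : IsCompact (V : Set ↥(Spec (CommRingCat.of RS))) := by
      rw [show (V : Set _) = φ.base '' (φ.base ⁻¹' (V : Set _)) from (Set.image_preimage_eq _ hsurj).symm]
      exact (TopologicalSpace.NoetherianSpace.isCompact _).image φ.continuous
    haveI : CompactSpace ↥(V : Scheme.{u}) := isCompact_iff_compactSpace.1 hc
    exact quasiCompact_of_compactSpace _
  intro c hc
  haveI : (EtCoh.pull φ).Additive := (EtCoh.pullPushAdj φ).left_adjoint_additive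
  refine isZero_locCoh_of_smaller U.ι (FEt.puncturedSpec RX).ι ?_ _ c fun b hb => ?_
  · rintro _ ⟨z, rfl⟩
    rw [Scheme.Opens.range_ι]
    intro hz
    exact z.2 ((congrArg φ (Set.mem_singleton_iff.1 hz)).trans hφ)
  · obtain ⟨e⟩ := nonempty_locCoh_pull_of_strictFibres V.ι φ U.ι (φ ∣_ V) (isPullback_morphismRestrict φ V) hst M
      ((isLTorsion_iff hℓ M).1 hM) b (by omega)
    refine IsZero.of_iso ?_ ((EtDual.locCoh (FEt.puncturedSpec RX).ι (c - b)).mapIso e.symm)
    haveI : (EtDual.secSupp (FEt.puncturedSpec RX).ι).Additive := inferInstance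
    by_cases hbp : b < p
    · exact SuppCoh.isZero_locCoh_of_isZero _ _ ((EtCoh.pull φ).map_isZero (hp b hbp))
    · refine isZero_locCoh_pull_supported φ (FEt.puncturedSpec RX).ι iA (fun z hz => ?_) pA sqA ℓ hℓ q hq _
        ((isLTorsion_iff hℓ _).2 (isLTorsion_locCoh V.ι M ((isLTorsion_iff hℓ M).1 hM) b))
        ((supp_locCoh_subset V.ι M b).trans fun z hz => ?_) (c - b) (by omega)
      · rw [Scheme.Opens.range_ι]
        exact fun h => hz (iA.isClosedEmbedding.injective ((Set.mem_singleton_iff.1 h).trans hiA.symm))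
      · rw [Scheme.Opens.range_ι] at hz
        exact not_not.1 hz

/-- The depth inequality for inverse images along locally acyclic morphisms. -/
theorem depthAtGE_pull_ge_min {X S : Scheme.{u}} (f : X ⟶ S) (x : X) (hx : IsNoetherianRing (X.presheaf.stalk x))
    (ℓ : ℕ) (hℓ : ℓ.Prime) (m p q : ℕ) (F : EtCoh.Ab S) (hF : EtDepth.IsLTorsion ℓ F)
    (hf : EtDepth.IsLocAcyclicLE f ℓ m) (hp : EtDepth.DepthAtGE S F (f.base x) p)
    (hq : ∀ x' : ↥(f.fiber (f.base x)), (f.fiberι (f.base x)).base x' = x →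
      EtDepth.DepthAtGE (f.fiber (f.base x)) (EtCoh.const (f.fiber (f.base x)) (ZMod ℓ)) x' q) :
    EtDepth.DepthAtGE X ((EtCoh.pull f).obj F) x (min (p + q) (m + 2)) := by
  intro RX _ _ _ _ hRX
  haveI := (S0540.result (X.presheaf.stalk x) RX).1 hx
  haveI := Hensel.IsStrictHenselization.henselian (R := X.presheaf.stalk x) (S := RX)
  haveI : IsSepClosed (ResidueField RX) :=
    (Hensel.IsStrictHenselization.isSepClosure (R := X.presheaf.stalk x) (S := RX)).sep_closed
  obtain ⟨RS, _, _, _, _, hRS⟩ := Henselization.exists_strictHenselization (R := S.presheaf.stalk (f.base x))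
  haveI := hRS
  obtain ⟨ψ, hl, hψ, hsq⟩ := SmoothBCLib.exists_strictLoc_hom f x RS RX
  letI : Algebra RS RX := ψ.toAlgebra
  haveI : IsLocalHom (algebraMap RS RX) := hl
  haveI := Hensel.IsStrictHenselization.henselian (R := S.presheaf.stalk (f.base x)) (S := RS)
  haveI : IsSepClosed (ResidueField RS) :=
    (Hensel.IsStrictHenselization.isSepClosure (R := S.presheaf.stalk (f.base x)) (S := RS)).sep_closed
  let φ := Spec.map (CommRingCat.ofHom (algebraMap RS RX))
  let σX := Hens2.specOf X x RX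
  let σS := Hens2.specOf S (f.base x) RS
  have hstf := strictFibres_of_isLocAcyclicLE f ℓ m hℓ hf
  haveI := ProEtSLib.weaklyEtale_specOf X x RX
  haveI := ProEtSLib.weaklyEtale_specOf S (f.base x) RS
  have hst : AcycCritLib.StrictFibres φ {ℓ} m := by
    refine AcycCritLib.strictFibres_of_comp_weaklyEtale φ σS ?_
    rw [show φ ≫ σS = σX ≫ f from hsq.symm]
    exact AcycCritLib.strictFibres_weaklyEtale_comp σX f hstf
  obtain ⟨A, _, _, iA, pA, hi, hiA, sqA, hdA⟩ := depthGE_closedFibre f x RS RX hsq (ZMod ℓ) q hq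
  haveI := hi
  have h := depthGE_pull_strictLoc φ (IsLocalRing.comap_closedPoint (algebraMap RS RX))
    (surjective_strictLoc f hstf x RS RX hψ) ℓ hℓ m p q hst iA hiA pA sqA hdA ((EtCoh.pull σS).obj F)
    ((isLTorsion_iff hℓ _).2 (AcycCompLib.isLTorsion_pull σS ((isLTorsion_iff hℓ F).1 hF))) (hp RS)
  let e : (EtCoh.pull φ).obj ((EtCoh.pull σS).obj F) ≅ (EtCoh.pull σX).obj ((EtCoh.pull f).obj F) :=
    (BCDLib.pullCompIso σS φ).symm.app F ≪≫ eqToIso (congrArg (fun g => (EtCoh.pull g).obj F) hsq.symm) ≪≫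
      (BCDLib.pullCompIso f σX).app F
  exact fun c hc => (h c hc).of_iso ((EtDual.locCoh _ c).mapIso e.symm)

end Groth.Agent.EtDepthLib
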