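import Groth.Agent.EtDepthLib.Dict
import Groth.Agent.AcycCompLib.Criterion

/-!
# Depth and restriction on étale schemes
-/

set_option autoImplicit false
set_option linter.style.haveILetI false
set_option linter.unusedSectionVars false
set_option backward.isDefEq.respectTransparency false
set_option backward.isDefEq.respectTransparency.types false
set_option maxHeartbeats 1000000

universe u

open CategoryTheory CategoryTheory.Limits AlgebraicGeometry Opposite CategoryTheory.Abelian
open Groth.Agent.AcycCompLib Groth.Agent.EtLimLib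

attribute [local instance] Groth.Agent.S0101.result

noncomputable section

namespace Groth.Agent.EtDepthLib

/-- In degree zero monomorphisms act injectively on cohomology. -/
theorem injective_H_map_zero {X : Scheme.{u}} {A B : EtCoh.Ab X} (a : A ⟶ B) [Mono a] :
    Function.Injective (Sheaf.H.map a 0) := fun x y h => by
  obtain ⟨x, rfl⟩ := Ext.homEquiv₀.symm.surjective x
  obtain ⟨y, rfl⟩ := Ext.homEquiv₀.symm.surjective y
  have h' : (Ext.mk₀ x).comp (Ext.mk₀ a) (add_zero 0) = (Ext.mk₀ y).comp (Ext.mk₀ a) (add_zero 0) := h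
  rw [Ext.mk₀_comp_mk₀, Ext.mk₀_comp_mk₀] at h'
  exact congrArg Ext.homEquiv₀.symm ((cancel_mono a).1 (Ext.homEquiv₀.symm.injective h'))

/-- A monomorphic unit gives injective restriction in degree zero. -/
theorem injective_Hpull_zero {U X : Scheme.{u}} (f : U ⟶ X) (G : EtCoh.Ab X)
    (hu : Mono ((EtCoh.pullPushAdj f).unit.app G)) : Function.Injective (EtCore.Hpull f G 0) := fun x y h => by
  haveI := hu
  rw [Hpull_eq_HofPush_unit, Hpull_eq_HofPush_unit] at h
  exact injective_H_map_zero _
    ((bijective_HofPush f _ 0 0 (fun q hq1 hq => absurd hq (by omega))).2 (by omega) h)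

/-- Injective restriction in degree zero on all étale schemes gives a monomorphic unit. -/
theorem mono_unit_of_injective {U X : Scheme.{u}} (f : U ⟶ X) (F : EtCoh.Ab X)
    (h : ∀ (W : X.Etale), Function.Injective (EtCore.Hpull (fW f W) ((EtCoh.pull W.hom).obj F) 0)) :
    Mono ((EtCoh.pullPushAdj f).unit.app F) := by
  let η := (EtCoh.pullPushAdj f).unit.app F
  refine Preadditive.mono_of_kernel_zero (eq_zero_of_top (kernel.ι η) fun W s => ?_)
  let t := ((EtCoh.pull W.hom).map (kernel.ι η)).hom.app (op (EtCoh.top W.left)) s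
  obtain ⟨σ, hσ⟩ := exists_pull_unit_baseChange0 f W.hom (fW f W) (pullback.snd W.hom f) (isPullback_fW f W).w F
  haveI : (EtCoh.pull W.hom).Additive := (EtCoh.pullPushAdj W.hom).left_adjoint_additive
  have h1 : ((EtCoh.pull W.hom).map η).hom.app (op (EtCoh.top W.left)) t = 0 := by
    have := congrArg (fun m => m.hom.app (op (EtCoh.top W.left)) s)
      ((((EtCoh.pull W.hom).map_comp (kernel.ι η) η).symm.trans
        (congrArg (EtCoh.pull W.hom).map (kernel.condition η))).trans (Functor.map_zero _ _ _))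
    exact this
  have h2 := ConcreteCategory.congr_hom (congrArg (fun m => m.hom.app (op (EtCoh.top W.left))) hσ) t
  have h3 : ((EtCoh.pullPushAdj (fW f W)).unit.app ((EtCoh.pull W.hom).obj F)).hom.app (op (EtCoh.top W.left)) t = 0 := by
    refine (bijective_app_of_isIso ((EtCoh.push (fW f W)).map σ.hom) (EtCoh.top W.left)).1 ?_
    rw [map_zero]
    refine h2.symm.trans ?_
    let b := (EtCoh.baseChange0 f W.hom (fW f W) (pullback.snd W.hom f) (isPullback_fW f W).w
      ((EtCoh.pull f).obj F)).hom.app (op (EtCoh.top W.left))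
    refine Eq.trans ?_ (map_zero b.hom)
    exact congrArg (fun y => b.hom y) h1
  let G := (EtCoh.pull W.hom).obj F
  obtain ⟨t', ht'⟩ := ((Sheaf.H.equiv₀ G (EtCore.topIsTerminal W.left))).surjective t
  have h5 : EtCore.Hpull (fW f W) G 0 t' = 0 := by
    have h0 := equiv₀_HpullThen (fW f W) (𝟙 ((EtCoh.pull (fW f W)).obj G)) t'
    rw [Adjunction.homEquiv_id, KPi1Lib.HpullThen_id'] at h0
    refine (Sheaf.H.equiv₀ ((EtCoh.pull (fW f W)).obj G) (EtCore.topIsTerminal _)).injective ?_
    rw [map_zero]
    refine h0.trans ((congrArg (((EtCoh.pull (fW f W)).obj G).obj.map (EtCore.bcTopIso (fW f W)).inv.op)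
      ((congrArg (((EtCoh.pullPushAdj (fW f W)).unit.app G).hom.app (op (EtCoh.top W.left))) ht').trans h3)).trans
      (map_zero _))
  have h6 : t' = 0 := (injective_iff_map_eq_zero (EtCore.Hpull (fW f W) G 0)).1 (h W) t' h5
  show t = 0
  rw [← ht', h6, map_zero]

variable {X U : Scheme.{u}} (j : U ⟶ X) [IsOpenImmersion j] [EtCoh.BCCont j] (F : EtCoh.Ab X) (n : ℕ)

/-- Depth gives the behaviour of restriction maps. -/
theorem Hpull_of_depthGE (h : EtDepth.DepthGE j F n) {X' : Scheme.{u}} (g : X' ⟶ X) [AlgebraicGeometry.Etale g] :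
    (∀ p : ℕ, p + 1 < n → Function.Bijective (EtCore.Hpull (pullback.snd j g) ((EtCoh.pull g).obj F) p)) ∧
      (∀ p : ℕ, p + 1 = n → Function.Injective (EtCore.Hpull (pullback.snd j g) ((EtCoh.pull g).obj F) p)) := by
  haveI : IsOpenImmersion (pullback.snd j g) := MorphismProperty.pullback_snd _ _ ‹_›
  obtain ⟨h1, h2, h3⟩ := (depthGE_iff (pullback.snd j g) ((EtCoh.pull g).obj F) n).1
    (depthGE_pull j F g _ (pullback.fst j g) (IsPullback.of_hasPullback j g) n h)
  refine ⟨fun p hp => (bijective_Hpull_of_unit _ p _ (n - 2) (h2 (by omega)) fun q hq1 hq => h3 q hq1 (by omega)).1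
    (by omega), fun p hp => ?_⟩
  rcases p with _ | p
  · exact injective_Hpull_zero _ _ (h1 (by omega))
  · exact (bijective_Hpull_of_unit _ (p + 1) _ (n - 2) (h2 (by omega)) fun q hq1 hq => h3 q hq1 (by omega)).2 (by omega)

/-- Restriction maps detect depth. -/
theorem depthGE_of_Hpull (h : ∀ (X' : Scheme.{u}) (g : X' ⟶ X) [AlgebraicGeometry.Etale g],
    (∀ p : ℕ, p + 1 < n → Function.Bijective (EtCore.Hpull (pullback.snd j g) ((EtCoh.pull g).obj F) p)) ∧
      (∀ p : ℕ, p + 1 = n → Function.Injective (EtCore.Hpull (pullback.snd j g) ((EtCoh.pull g).obj F) p))) :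
    EtDepth.DepthGE j F n := by
  have key : ∀ W : X.Etale,
      (∀ p : ℕ, p + 1 < n → Function.Bijective (EtCore.Hpull (fW j W) ((EtCoh.pull W.hom).obj F) p)) ∧
        (∀ p : ℕ, p + 1 = n → Function.Injective (EtCore.Hpull (fW j W) ((EtCoh.pull W.hom).obj F) p)) := fun W => by
    haveI : AlgebraicGeometry.Etale W.hom := W.prop
    let e := (pullbackSymmetry W.hom j).hom
    have w : e ≫ pullback.snd j W.hom = fW j W := pullbackSymmetry_hom_comp_snd _ _
    refine ⟨fun p hp => (bijective_Hpull_comp_iff _ e _ w _ p).2 ?_,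
      fun p hp => (injective_Hpull_comp_iff _ e _ w _ p).2 ?_⟩
    · exact (bijective_Hpull_of_isIso e _ p).comp ((h _ W.hom).1 p hp)
    · exact (bijective_Hpull_of_isIso e _ p).1.comp ((h _ W.hom).2 p hp)
  refine (depthGE_iff j F n).2 ⟨fun hn => mono_unit_of_injective j F fun W => ?_,
    fun hn => isIso_unit_of_Hpull j F fun W => (key W).1 0 (by omega), fun q hq hqn => ?_⟩
  · by_cases h2 : 2 ≤ n
    · exact ((key W).1 0 (by omega)).1
    · exact (key W).2 0 (by omega)
  · refine isZero_Rpush_of_surjAt j (n - 2) _ (fun p hp1 hp => surjAt_of_Hpull j F p fun W _ => ?_) q hq (by omega)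
    exact ((key W).1 p (by omega)).2

end Groth.Agent.EtDepthLib
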