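import Groth.Agent.EtDepthLib.Dict
import Groth.Agent.SmoothBCLib.RowsProperFibre
import Groth.Agent.BCDLib.Vcomp
import Groth.Agent.SmoothPushLib.Spec
import Groth.Agent.S1467

/-!
# Depth at a point and weakly étale strictly henselian neighbourhoods
-/

set_option autoImplicit false
set_option linter.style.haveILetI false
set_option linter.unusedSectionVars false
set_option backward.isDefEq.respectTransparency false
set_option backward.isDefEq.respectTransparency.types false
set_option maxHeartbeats 1000000

universe u

open CategoryTheory CategoryTheory.Limits AlgebraicGeometry Opposite IsLocalRing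

attribute [local instance] Groth.Agent.S0101.result

noncomputable section

namespace Groth.Agent.EtDepthLib

/-- The composite of a strict localization with a weakly étale morphism is a strict localization. -/
theorem exists_strictHenselization_weaklyEtale {T Z : Scheme.{u}} (g : Z ⟶ T) [WeaklyEtale g] (z : Z)
    (R : Type u) [CommRing R] [IsLocalRing R] [Algebra (Z.presheaf.stalk z) R]
    [IsLocalHom (algebraMap (Z.presheaf.stalk z) R)] [Hensel.IsStrictHenselization (Z.presheaf.stalk z) R] :
    ∃ (_ : Algebra (T.presheaf.stalk (g z)) R) (_ : IsLocalHom (algebraMap (T.presheaf.stalk (g z)) R)),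
      Hensel.IsStrictHenselization (T.presheaf.stalk (g z)) R ∧ Hens2.specOf Z z R ≫ g = Hens2.specOf T (g z) R := by
  obtain ⟨hl, hs⟩ := (S1467.result g).1 ‹WeaklyEtale g› z R
  refine ⟨((algebraMap (Z.presheaf.stalk z) R).comp (g.stalkMap z).hom).toAlgebra, hl, hs, ?_⟩
  show (Spec.map _ ≫ Z.fromSpecStalk z) ≫ g = Spec.map _ ≫ T.fromSpecStalk (g z)
  rw [Category.assoc, ← Scheme.SpecMap_stalkMap_fromSpecStalk, ← Category.assoc, ← Spec.map_comp]
  rfl

/-- Depth along the closed point passes to isomorphic spectra. -/
theorem depthGE_punctured_of_isIso {R R' : Type u} [CommRing R] [IsLocalRing R] [CommRing R'] [IsLocalRing R']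
    (τ : Spec (CommRingCat.of R) ⟶ Spec (CommRingCat.of R')) [IsIso τ] (hτ : τ (closedPoint R) = closedPoint R')
    (F' : EtCoh.Ab (Spec (CommRingCat.of R'))) (n : ℕ) (h : EtDepth.DepthGE (FEt.puncturedSpec R').ι F' n) :
    EtDepth.DepthGE (FEt.puncturedSpec R).ι ((EtCoh.pull τ).obj F') n := by
  let k' := (FEt.puncturedSpec R').ι
  haveI : IsOpenImmersion (pullback.snd k' τ) := MorphismProperty.pullback_snd _ _ inferInstance
  have hd := depthGE_pull k' F' τ _ _ (IsPullback.of_hasPullback k' τ) n h
  refine fun p hp => SuppCoh.isZero_locCoh_of_range_subset (pullback.snd k' τ) _ ?_ _ n hd p hp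
  rintro _ ⟨z, rfl⟩
  rw [Scheme.Opens.range_ι]
  intro hz
  have h1 : τ ((pullback.snd k' τ) z) = closedPoint R' := by rw [Set.mem_singleton_iff.1 hz, hτ]
  have h2 : k' (pullback.fst k' τ z) = closedPoint R' :=
    ((Scheme.Hom.comp_apply _ _ _).symm.trans
      (congrArg (fun m => m z) (pullback.condition (f := k') (g := τ)))).trans
      ((Scheme.Hom.comp_apply _ _ _).trans h1)
  exact (pullback.fst k' τ z).2 h2

/-- Depth at a point gives depth on a weakly étale strictly henselian neighbourhood. -/
theorem depthGE_punctured_of_weaklyEtale {T : Scheme.{u}} (R : Type u) [CommRing R] [HenselianLocalRing R]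
    [IsSepClosed (ResidueField R)] (g : Spec (CommRingCat.of R) ⟶ T) [WeaklyEtale g] (F : EtCoh.Ab T) (n : ℕ)
    (h : EtDepth.DepthAtGE T F (g (closedPoint R)) n) :
    EtDepth.DepthGE (FEt.puncturedSpec R).ι ((EtCoh.pull g).obj F) n := by
  obtain ⟨R', _, _, _, _, hR⟩ := Henselization.exists_strictHenselization (R := (Spec (CommRingCat.of R)).presheaf.stalk (closedPoint R))
  haveI := hR
  let σ := Hens2.specOf (Spec (CommRingCat.of R)) (closedPoint R) R'
  haveI : IsIso σ := SmoothBCLib.isIso_specOf_closedPoint R (closedPoint R) rfl R'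
  haveI := Hensel.IsStrictHenselization.henselian (R := (Spec (CommRingCat.of R)).presheaf.stalk (closedPoint R)) (S := R')
  haveI : IsSepClosed (ResidueField R') :=
    (Hensel.IsStrictHenselization.isSepClosure (R := (Spec (CommRingCat.of R)).presheaf.stalk (closedPoint R)) (S := R')).sep_closed
  have hcl : σ (closedPoint R') = closedPoint R := SmoothPushLib.specOf_closedPoint (Y := Spec (CommRingCat.of R)) (closedPoint R) R'
  obtain ⟨aT, hl, hs, he⟩ := exists_strictHenselization_weaklyEtale g (closedPoint R) R'
  letI := aT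
  haveI := hl
  haveI := hs
  have hτ : (inv σ) (closedPoint R) = closedPoint R' :=
    (congrArg (inv σ) hcl.symm).trans
      ((Scheme.Hom.comp_apply σ (inv σ) _).symm.trans (congrArg (fun m => m (closedPoint R')) (IsIso.hom_inv_id σ)))
  have hd := depthGE_punctured_of_isIso (inv σ) hτ _ n (h R')
  let e : (EtCoh.pull (inv σ)).obj ((EtCoh.pull (Hens2.specOf T (g (closedPoint R)) R')).obj F) ≅
      (EtCoh.pull g).obj F :=
    (BCDLib.pullCompIso (Hens2.specOf T (g (closedPoint R)) R') (inv σ)).symm.app F ≪≫
      eqToIso (congrArg (fun m => (EtCoh.pull m).obj F)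
        (show inv σ ≫ Hens2.specOf T (g (closedPoint R)) R' = g by rw [← he]; exact IsIso.inv_hom_id_assoc σ g))
  exact fun p hp => (hd p hp).of_iso ((EtDual.locCoh _ p).mapIso e.symm)

end Groth.Agent.EtDepthLib
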