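import Groth.Agent.EtDepthLib.Dict
import Groth.Agent.SmoothBCLib.LARelStalk
import Groth.Agent.SuppCoh.Etale

/-!
# Local cohomology sheaves and strict localization
-/

set_option autoImplicit false
set_option linter.style.haveILetI false
set_option linter.unusedSectionVars false
set_option backward.isDefEq.respectTransparency false
set_option backward.isDefEq.respectTransparency.types false
set_option maxHeartbeats 1000000

universe u

open CategoryTheory CategoryTheory.Limits AlgebraicGeometry Opposite IsLocalRing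

attribute [local instance] Groth.Agent.S0101.result

noncomputable section

namespace Groth.Agent.EtDepthLib

/-- Vanishing of higher direct images passes to weakly étale schemes over the base. -/
theorem isZero_Rpush_weaklyEtale {U X U' X' : Scheme.{u}} (f : U ⟶ X) [QuasiCompact f] [QuasiSeparated f]
    (g : X' ⟶ X) [WeaklyEtale g] (f' : U' ⟶ X') [QuasiCompact f'] [QuasiSeparated f'] (g' : U' ⟶ U)
    (sq : IsPullback g' f' f g) (N : EtCoh.Ab U) (q : ℕ) (h : IsZero ((EtCoh.Rpush f q).obj N)) :
    IsZero ((EtCoh.Rpush f' q).obj ((EtCoh.pull g').obj N)) := by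
  refine SmoothBCLib.isZero_Rpush_of_strictLoc f' _ q fun y R _ _ aR _ _ _ => ?_
  obtain ⟨hl, hs⟩ := (S1467.result g).1 ‹WeaklyEtale g› y R
  letI aX : Algebra (X.presheaf.stalk (g y)) R :=
    ((algebraMap (X'.presheaf.stalk y) R).comp (g.stalkMap y).hom).toAlgebra
  haveI := hl
  haveI := hs
  haveI := SmoothBCLib.subsingleton_H_of_isZero f N q h (g y) R
  let ε' := Hens2.specOf X' y R
  let ε := Hens2.specOf X (g y) R
  have hε : ε' ≫ g = ε := by
    show (Spec.map _ ≫ X'.fromSpecStalk y) ≫ g = Spec.map _ ≫ X.fromSpecStalk (g y)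
    rw [Category.assoc, ← Scheme.SpecMap_stalkMap_fromSpecStalk, ← Category.assoc, ← Spec.map_comp]
    rfl
  have sq' : IsPullback (pullback.fst f' ε' ≫ g') (pullback.snd f' ε') f ε :=
    hε ▸ (IsPullback.of_hasPullback f' ε').paste_horiz sq
  let e := sq'.isoPullback
  have he : e.hom ≫ pullback.fst f ε = pullback.fst f' ε' ≫ g' := sq'.isoPullback_hom_fst
  refine (SmoothBCLib.subsingleton_H_pull_pull g' (pullback.fst f' ε') _ rfl N q).1 ?_
  refine (SmoothBCLib.subsingleton_H_pull_pull (pullback.fst f ε) e.hom _ he N q).2 ?_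
  exact (AcycCompLib.bijective_Hpull_of_isIso e.hom
    ((EtCoh.pull (pullback.fst f ε)).obj N) q).2.subsingleton

section Square

variable {X U X' U' : Scheme.{u}} (j : U ⟶ X) (g : X' ⟶ X) (j' : U' ⟶ X') (g' : U' ⟶ U)
  (w : g' ≫ j = j' ≫ g)
  (hbc : ∀ G : EtCoh.Ab U, IsIso (EtCoh.baseChange0 j g j' g' w G))

/-- Inverse image of the kernel of the unit, when base change holds. -/
def secSuppBCIso (F : EtCoh.Ab X) :
    (EtCoh.pull g).obj ((EtDual.secSupp j).obj F) ≅ (EtDual.secSupp j').obj ((EtCoh.pull g).obj F) :=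
  haveI : (EtCoh.pull g).Additive := (EtCoh.pullPushAdj g).left_adjoint_additive
  haveI := hbc ((EtCoh.pull j).obj F)
  PreservesKernel.iso (EtCoh.pull g) (EtDual.unitApp j F) ≪≫
    kernel.mapIso _ _ (Iso.refl _)
      (asIso (EtCoh.baseChange0 j g j' g' w ((EtCoh.pull j).obj F)) ≪≫
        (EtCoh.push j').mapIso ((SuppCoh.pullSq j g j' g' w).app F).symm) (by
        simp only [Iso.trans_hom, asIso_hom, Functor.mapIso_hom, Iso.symm_hom, Iso.app_inv, Iso.refl_hom,
          Category.id_comp, ← Category.assoc, SuppCoh.map_unit_baseChange0]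
        rw [Category.assoc, ← Functor.map_comp, Iso.hom_inv_id_app]
        erw [CategoryTheory.Functor.map_id]
        exact Category.comp_id _)

theorem secSuppBCIso_hom_ι (F : EtCoh.Ab X) :
    (secSuppBCIso j g j' g' w hbc F).hom ≫ kernel.ι (EtDual.unitApp j' ((EtCoh.pull g).obj F)) =
      (EtCoh.pull g).map (kernel.ι (EtDual.unitApp j F)) := by
  simp [secSuppBCIso, kernel.mapIso]

/-- Sections with support commute with inverse image, when base change holds. -/
def secSuppBCNatIso : EtDual.secSupp j ⋙ EtCoh.pull g ≅ EtCoh.pull g ⋙ EtDual.secSupp j' :=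
  NatIso.ofComponents (secSuppBCIso j g j' g' w hbc) (fun {F G} a => by
    apply (cancel_mono (kernel.ι (EtDual.unitApp j' ((EtCoh.pull g).obj G)))).1
    simp only [Functor.comp_map, Category.assoc, secSuppBCIso_hom_ι, kernel.lift_ι, kernel.map,
      ← Functor.map_comp]
    rw [← Category.assoc]
    erw [secSuppBCIso_hom_ι]
    rw [← Functor.map_comp])

variable [IsOpenImmersion j] [EtCoh.BCCont j] [QuasiCompact j] [IsOpenImmersion j'] [EtCoh.BCCont j']
  [QuasiCompact j'] [WeaklyEtale g]

include hbc in
/-- Local cohomology sheaves commute with weakly étale base change. -/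
theorem nonempty_locCoh_weaklyEtale (sq : IsPullback g' j' j g) (p : ℕ) (F : EtCoh.Ab X) :
    Nonempty ((EtCoh.pull g).obj ((EtDual.locCoh j p).obj F) ≅
      (EtDual.locCoh j' p).obj ((EtCoh.pull g).obj F)) := by
  haveI : (EtCoh.pull g).Additive := (EtCoh.pullPushAdj g).left_adjoint_additive
  haveI : PreservesFiniteColimits (EtCoh.pull g) := by
    haveI : PreservesColimitsOfSize.{0, 0} (EtCoh.pull g) := (EtCoh.pullPushAdj g).leftAdjoint_preservesColimits
    exact PreservesColimitsOfSize.preservesFiniteColimits _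
  haveI : PreservesFiniteLimits (EtDual.secSupp j') :=
    ((Functor.preservesFiniteLimits_tfae (EtDual.secSupp j')).out 2 3).1
      fun _ _ f => SuppCoh.preservesKernel_secSupp j' f
  have hac : ∀ I : EtCoh.Ab X, Injective I →
      SpSeqLib.IsAcyclicFor (EtDual.secSupp j') ((EtCoh.pull g).obj I) := fun I _ p => by
    rcases p with _ | p
    · refine (isZero_locCoh_one_iff j' _).2 ?_
      haveI := hbc ((EtCoh.pull j).obj I)
      haveI := LocCohLib.epi_unitApp j I
      haveI : Epi ((EtCoh.pull g).map (EtDual.unitApp j I)) := inferInstance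
      have h1 : Epi (EtDual.unitApp j' ((EtCoh.pull g).obj I) ≫
          (EtCoh.push j').map ((SuppCoh.pullSq j g j' g' w).hom.app I)) := by
        rw [← SuppCoh.map_unit_baseChange0]
        infer_instance
      haveI := h1
      rw [← IsIso.comp_inv_eq _ |>.2 (rfl : EtDual.unitApp j' ((EtCoh.pull g).obj I) ≫
          (EtCoh.push j').map ((SuppCoh.pullSq j g j' g' w).hom.app I) = _)]
      infer_instance
    · refine (isZero_locCoh_succ_iff j' _ p).2 ?_
      haveI : Injective ((EtCoh.pull j).obj I) := BCVertLib.injective_pull_etale j I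
      exact (isZero_Rpush_weaklyEtale j g j' g' sq ((EtCoh.pull j).obj I) (p + 1)
        ((EtCoh.push j).isZero_rightDerived_obj_injective_succ p _)).of_iso
          ((EtCoh.Rpush j' (p + 1)).mapIso ((SuppCoh.pullSq j g j' g' w).app I))
  exact ⟨((SpSeqLib.rightDerivedPostcompIso (EtDual.secSupp j) (EtCoh.pull g) p).symm ≪≫
    SpSeqLib.rightDerivedCongr (secSuppBCNatIso j g j' g' w hbc) p ≪≫
    SpSeqLib.rightDerivedPrecompAcyclicIso (EtCoh.pull g) (EtDual.secSupp j') hac p).app F⟩

end Square

/-- Local cohomology sheaves commute with strict localization. -/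
theorem nonempty_locCoh_specOf {X U : Scheme.{u}} (j : U ⟶ X) [IsOpenImmersion j] [QuasiCompact j]
    [EtCoh.BCCont j] (x : X) (R : Type u) [CommRing R] [IsLocalRing R] [Algebra (X.presheaf.stalk x) R]
    [IsLocalHom (algebraMap (X.presheaf.stalk x) R)] [Hensel.IsStrictHenselization (X.presheaf.stalk x) R]
    (p : ℕ) (F : EtCoh.Ab X) [IsOpenImmersion (pullback.snd j (Hens2.specOf X x R))]
    [EtCoh.BCCont (pullback.snd j (Hens2.specOf X x R))] :
    Nonempty ((EtCoh.pull (Hens2.specOf X x R)).obj ((EtDual.locCoh j p).obj F) ≅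
      (EtDual.locCoh (pullback.snd j (Hens2.specOf X x R)) p).obj ((EtCoh.pull (Hens2.specOf X x R)).obj F)) := by
  haveI := ProEtSLib.weaklyEtale_specOf X x R
  haveI : QuasiCompact (pullback.snd j (Hens2.specOf X x R)) := MorphismProperty.pullback_snd _ _ ‹_›
  exact nonempty_locCoh_weaklyEtale j (Hens2.specOf X x R) _ _ pullback.condition
    (fun G => SmoothBCLib.isIso_baseChange0_specOf j x R G) (IsPullback.of_hasPullback _ _) p F

end Groth.Agent.EtDepthLib
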